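import Cfsg.Agent.Lib.Mc3.Kc
import Cfsg.Agent.Lib.A9.Tab

/-! Coordinates on `J` adapted to the four-group `⟨t, u⟩`. -/

set_option autoImplicit false

namespace H87.Mc

open Subgroup Equiv Equiv.Perm H58 H58.Cd H58.St H58.SE H53.Odd
open H58.N9 (W act mw kap)

theorem sq_t0 (p : P6) : sign p = 1 → p * p = t0 → p = b0 ∨ p = b0⁻¹ := by
  simp only [Cd.eq_iff (n := 6), code_mul, code_inv, sign_eq_one]
  refine fp 6 (code p) ⟨p, rfl⟩ ?_
  decide +kernel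

theorem v4_inv (p : P6) : sign p = 1 → p * p = 1 → (∀ i j : Fin 2, ∀ k : Fin 3,
    (p * (t0 ^ i.val * u0 ^ j.val * θ0⁻¹ ^ k.val)) ^ 2 = 1 ∨
      (p * (t0 ^ i.val * u0 ^ j.val * θ0⁻¹ ^ k.val)) ^ 3 = 1) →
    p = 1 ∨ ∃ k : Fin 3, θ0⁻¹ ^ k.val * p * (θ0⁻¹ ^ k.val)⁻¹ = t0 := by
  simp only [Cd.eq_iff (n := 6), code_mul, code_inv, code_pow, sign_eq_one]
  refine fp 6 (code p) ⟨p, rfl⟩ ?_
  decide +kernel

variable {G : Type*} [Group G]

namespace Su3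

variable {S : Subgroup G} {z : G} {Q J L0 : Subgroup G} {ψ : G → P5} {t : G} {M0 : Subgroup G}
  {π : G → P6} {a b u z' : G} (h : Su3 S z Q J L0 ψ t M0 π a b u z') [Finite G]
include h

theorem binv {x : G} (hx : x ∈ S) (c : Commute t x) : b * x * b⁻¹ = x⁻¹ := by
  rcases h.memD hx c with e | e | e
  · exact Su1.invZ h.bz e
  · calc _ = b * (x * z') * b⁻¹ * (b * z' * b⁻¹)⁻¹ := by group
      _ = _ := by rw [Su1.invZ h.bz e, h.bz', h.comJ (h.DJ hx c) h.z'J]; group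
  · calc _ = b * (x * z'⁻¹) * b⁻¹ * (b * z' * b⁻¹) := by group
      _ = _ := by rw [Su1.invZ h.bz e, h.bz', h.comJ (h.DJ hx c) (inv_mem h.z'J)]; group

theorem fix4 {r x : G} (hr : r ∈ M0) (h4 : π r ^ 4 = 1) (h2 : π r ^ 2 ≠ 1) (hx : x ∈ J)
    (e : Commute r x) : x = 1 := by
  obtain ⟨g0, hg0, e0⟩ := a6_inv (p := π r * π r) (by rw [← h4, ← pow_two, ← pow_two, ← pow_mul])
    (by rwa [← pow_two]) (by simp [h.πev r hr])
  obtain ⟨g, hg, rfl⟩ := h.πsur g0 hg0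
  have hr' := h.nM g (h.MN hg) r hr
  have hx' := h.nJ (h.MN hg) hx
  have e' : Commute (g * r * g⁻¹) (g * x * g⁻¹) := SE.conj_comm e
  have e1 : π (g * r * g⁻¹) * π (g * r * g⁻¹) = t0 := by rw [h.hπ.conj hg hr, ← e0]; group
  suffices g * x * g⁻¹ = 1 by simpa using this
  generalize g * r * g⁻¹ = r at hr' e' e1
  generalize g * x * g⁻¹ = x at hx' e'
  have cb : Commute b x := by
    rcases sq_t0 _ (h.πev r hr') e1 with e2 | e2
    · simpa using (Commute.inv_left (h.comJ (h.eqπ hr' h.bM (e2.trans h.πb.symm)) hx')).mul_left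
        (show Commute (r * b⁻¹ * b) x by simpa using e')
    · have := h.eqπ hr' (inv_mem h.bM) (by rw [e2, h.hπ.inv h.bM, h.πb])
      simpa using e'.inv_left.mul_left (h.comJ this hx')
  have h1 := h.binv (h.JS hx') (h.b2 ▸ cb.mul_left cb)
  rw [cb.eq, mul_inv_cancel_right] at h1
  exact eq_one_of_23 (by nth_rewrite 1 [h1]; simp) (h.eJ x hx')

theorem nofix {g x : G} (hg : g ∈ M0) (hx : x ∈ J) (x1 : x ≠ 1) (e : Commute g x) :
    π g ^ 2 = 1 ∨ π g ^ 3 = 1 := by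
  by_contra! hn
  rcases a6_ord _ (h.πev g hg) with e1 | e1 | e1
  · exact x1 (h.fix4 hg e1 hn.1 hx e)
  · exact hn.2 e1
  · refine x1 (h.fix5 (pow_mem (h.MN hg) 3) ?_ (fun e2 => hn.2 ?_) hx (e.pow_left 3))
    · rw [← pow_mul, mul_comm, pow_mul]
      exact h.eJ _ ((h.πker _ (pow_mem hg 5)).1 (by rw [h.hπ.pow hg, e1]))
    · rw [← h.hπ.pow hg, e2, h.hπ.one]

theorem u1 : u ≠ 1 := fun e => by
  have := h.πu
  rw [e, h.hπ.one] at this
  exact absurd this (by decide +kernel)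

theorem yJ : z * z' ∈ J := mul_mem h.zJ h.z'J
theorem yQ : z * z' ∉ Q := fun e => h.z'Q (by simpa using mul_mem (inv_mem h.zQ) e)
theorem y1 : z * z' ≠ 1 := fun e => h.yQ (e ▸ one_mem _)
theorem ty : Commute t (z * z') := h.zt.mul_right h.z't
theorem uy : Commute u (z * z') := mul_inv_eq_iff_eq_mul.1 (by
  calc _ = u * z * u⁻¹ * (u * z' * u⁻¹) := by group
    _ = _ := by rw [h.uz, h.uz', h.zz'.eq])

theorem uZ {v : G} (hv : v ∈ zpowers z) (c : Commute u v) : v = 1 := by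
  rcases h.memZ.1 hv with e | e | e
  · exact e
  · subst e; exact absurd (by rw [← h.uz, c.eq]; simpa using h.zQ) h.z'Q
  · have : Commute u z := by simpa [e] using c
    exact absurd (by rw [← h.uz, this.eq]; simpa using h.zQ) h.z'Q

theorem KV {j : G} (hj : j ∈ J) (c1 : Commute t j) (c2 : Commute u j) : j ∈ zpowers (z * z') := by
  have hy := mem_zpowers (z * z')
  rcases h.memD (h.JS hj) c1 with e | e | e
  · rw [h.uZ e c2]; exact one_mem _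
  · have := h.uZ (mul_mem e (mem_zpowers z)) (by
      rw [mul_assoc, ← h.zz'.eq]; exact c2.mul_right h.uy)
    rw [mul_assoc, ← h.zz'.eq] at this
    rw [eq_inv_of_mul_eq_one_left this]; exact inv_mem hy
  · have := h.uZ (mul_mem e (inv_mem (mem_zpowers z))) (by
      rw [mul_assoc, ← mul_inv_rev]; exact c2.mul_right h.uy.inv_right)
    rw [mul_assoc, ← mul_inv_rev, mul_inv_eq_one] at this
    exact this ▸ hy

/-- `z z'` is not singular -/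
theorem nsy (g : G) : g * z * g⁻¹ ∉ zpowers (z * z') := fun hv => by
  have c1 : Commute t (g * z * g⁻¹) := by obtain ⟨k, e⟩ := hv; exact e ▸ h.ty.zpow_right k
  have c2 : Commute u (g * z * g⁻¹) := by obtain ⟨k, e⟩ := hv; exact e ▸ h.uy.zpow_right k
  rcases h.singD (h.JS (zpowers_le.2 h.yJ hv)) c1 with e | e
  · exact conj_ne_one h.z1 (h.uZ (h.memZ.2 (Or.inr e)) c2)
  · have c3 : Commute u z' := by rcases e with e | e <;> simpa [e] using c2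
    exact h.z'Q (by have := h.zQ; rwa [← h.uz', c3.eq, mul_inv_cancel_right] at this)

theorem nse {g : G} (hg : g * z * g⁻¹ ∈ S) (c : Commute t (g * z * g⁻¹)) :
    u * (g * z * g⁻¹) * u⁻¹ ≠ (g * z * g⁻¹)⁻¹ := fun e => h.z'Q (by
  rcases h.singD hg c with (e1 | e1) | e1 | e1 <;> rw [e1] at e
  · rw [← h.uz, e]; exact inv_mem h.zQ
  · rw [← conj_inv, inv_inj] at e
    rw [← h.uz, e]; exact inv_mem h.zQ
  · rw [h.uz'] at e
    exact inv_mem_iff.1 (e ▸ h.zQ)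
  · rw [← conj_inv, inv_inj, h.uz'] at e
    exact inv_mem_iff.1 (e ▸ h.zQ))

end Su3

/-- The fifth layer: an element of order three permuting the involutions of `⟨t, u⟩`. -/
structure Su5 (S : Subgroup G) (z : G) (Q J L0 : Subgroup G) (ψ : G → P5) (t : G)
    (M0 : Subgroup G) (π : G → P6) (a b u z' θ : G) : Prop
    extends Su4 S z Q J L0 ψ t M0 π a b u z' where
  θM : θ ∈ M0
  πθ : π θ = θ0⁻¹
  θt : θ * t * θ⁻¹ = u
  θu : θ * u * θ⁻¹ = t * u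

theorem Su4.exists5 {S : Subgroup G} {z : G} {Q J L0 : Subgroup G} {ψ : G → P5} {t : G}
    {M0 : Subgroup G} {π : G → P6} {a b u z' : G} (h : Su4 S z Q J L0 ψ t M0 π a b u z') [Finite G] :
    ∃ θ, Su5 S z Q J L0 ψ t M0 π a b u z' θ := by
  obtain ⟨θ1, m1, e1⟩ := h.πsur θ0⁻¹ (by decide +kernel)
  have n1 := h.eqπ (h.nM _ (h.MN m1) t h.tM) h.uM (by
    rw [h.hπ.conj m1 h.tM, e1, h.πt, h.πu]; decide +kernel)
  obtain ⟨θ2, m2, e2, c2⟩ : ∃ θ ∈ M0, π θ = θ0⁻¹ ∧ θ * t * θ⁻¹ = u :=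
    ⟨_, mul_mem (h.JM n1) m1, by rw [h.hπ (h.JM n1) m1, h.πJ n1, one_mul, e1], by
      convert inv_adj (v := θ1 * t * θ1⁻¹) (t := u) (by group) (conj_sq h.t2) h.u2 (h.eJ _ n1) using 1
      group⟩
  have tu := mul_mem h.tM h.uM
  have n2 := h.eqπ (h.nM _ (h.MN m2) u h.uM) tu (by
    rw [h.hπ.conj m2 h.uM, h.hπ h.tM h.uM, e2, h.πt, h.πu]; decide +kernel)
  have c : Commute u t := h.ut
  have c3 : Commute (θ2 * u * θ2⁻¹ * (t * u)⁻¹) u :=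
    (show Commute (θ2 * u * θ2⁻¹) u by
      nth_rewrite 2 [← c2]; exact SE.conj_comm c).mul_left (c.symm.mul_left (Commute.refl u)).inv_left
  refine ⟨_, h, mul_mem (h.JM n2) m2, by rw [h.hπ (h.JM n2) m2, h.πJ n2, one_mul, e2], ?_, ?_⟩
  · calc _ = θ2 * u * θ2⁻¹ * (t * u)⁻¹ * (θ2 * t * θ2⁻¹) * (θ2 * u * θ2⁻¹ * (t * u)⁻¹)⁻¹ := by group
      _ = u := by rw [c2, c3.eq]; group
  · convert inv_adj (v := θ2 * u * θ2⁻¹) (t := t * u) (by group) (conj_sq h.u2) (by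
      rw [mul_assoc, ← mul_assoc u, c.eq, mul_assoc, h.u2, mul_one, h.t2]) (h.eJ _ n2) using 1
    group

/-- the coordinates -/
def ff (z z' θ : G) : V27 → G :=
  f27 (θ * (z * z'⁻¹) * θ⁻¹) (θ * (θ * (z * z'⁻¹) * θ⁻¹) * θ⁻¹) (z * z'⁻¹)

theorem eqns_ff : True := by
  have := @ff.eq_1.{0}
  trivial

/-- `g` acts on the coordinates as `w` -/
structure Ac (J : Subgroup G) (y : G) (f : V27 → G) (g : G) (w : W) : Prop where
  n : g ∈ normalizer (J : Set G)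
  c : Commute g y
  a : ∀ x, g * f x * g⁻¹ = f (act w x)

theorem act_mw : ∀ w w' x, act (mw w w') x = act w (act w' x) := by decide +kernel
theorem act_zero : ∀ x, act 0 x = x := by decide +kernel
theorem act_lin : ∀ w (x : V27), x.1.val • act w (1, 0, 0) + (x.2.1.val • act w (0, 1, 0) +
    x.2.2.val • act w (0, 0, 1)) = act w x := by decide +kernel

/-- powers in `W` -/
def wp (w : W) (n : ℕ) : W := Nat.rec 0 (fun _ r => mw r w) n

theorem Ac.mul {J : Subgroup G} {y : G} {f : V27 → G} {g g' : G} {w w' : W} (h : Ac J y f g w)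
    (h' : Ac J y f g' w') : Ac J y f (g * g') (mw w w') :=
  ⟨mul_mem h.n h'.n, h.c.mul_left h'.c, fun x => by rw [act_mw, ← h.a, ← h'.a]; group⟩

theorem Ac.one {J : Subgroup G} {y : G} {f : V27 → G} : Ac J y f 1 0 :=
  ⟨one_mem _, Commute.one_left _, fun x => by rw [act_zero]; group⟩

theorem Ac.pow {J : Subgroup G} {y : G} {f : V27 → G} {g : G} {w : W} (h : Ac J y f g w) :
    ∀ n, Ac J y f (g ^ n) (wp w n)
  | 0 => by rw [pow_zero]; exact Ac.one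
  | n + 1 => by rw [pow_succ]; exact (h.pow n).mul h

/-- the elements acting as even monomial matrices -/
def Γ (J : Subgroup G) (t u θ : G) : Subgroup G := closure ((J : Set G) ∪ {t, u, θ})

theorem JΓ {J : Subgroup G} {t u θ j : G} (hj : j ∈ J) : j ∈ Γ J t u θ :=
  subset_closure (Or.inl hj)
theorem tΓ {J : Subgroup G} {t u θ : G} : t ∈ Γ J t u θ := subset_closure (Or.inr (by simp))
theorem uΓ {J : Subgroup G} {t u θ : G} : u ∈ Γ J t u θ := subset_closure (Or.inr (by simp))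
theorem θΓ {J : Subgroup G} {t u θ : G} : θ ∈ Γ J t u θ := subset_closure (Or.inr (by simp))

theorem cjc {g x x' : G} (θ : G) (e : g * x * g⁻¹ = x') :
    θ * g * θ⁻¹ * (θ * x * θ⁻¹) * (θ * g * θ⁻¹)⁻¹ = θ * x' * θ⁻¹ := by rw [← e]; group

theorem cji {g x : G} (θ : G) (e : g * x * g⁻¹ = x⁻¹) :
    θ * g * θ⁻¹ * (θ * x * θ⁻¹) * (θ * g * θ⁻¹)⁻¹ = (θ * x * θ⁻¹)⁻¹ := by rw [cjc θ e]; group

namespace Su5

variable {S : Subgroup G} {z : G} {Q J L0 : Subgroup G} {ψ : G → P5} {t : G} {M0 : Subgroup G}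
  {π : G → P6} {a b u z' θ : G} (h : Su5 S z Q J L0 ψ t M0 π a b u z' θ) [Finite G]
include h

theorem θN : θ ∈ normalizer (J : Set G) := h.MN h.θM

theorem θ3 : θ ^ 3 ∈ J := (h.πker _ (pow_mem h.θM 3)).1 (by
  rw [h.hπ.pow h.θM, h.πθ]; decide +kernel)

theorem θ3c {j : G} (hj : j ∈ J) : θ * (θ * (θ * j * θ⁻¹) * θ⁻¹) * θ⁻¹ = j := by
  rw [← h.cjJ h.θ3 hj, pow_three']
  nth_rewrite 1 [h.cjJ (pow_three' θ ▸ h.θ3) hj]
  group

theorem θtu : θ * (t * u) * θ⁻¹ = t := by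
  calc _ = θ * t * θ⁻¹ * (θ * u * θ⁻¹) := by group
    _ = t := by rw [h.θt, h.θu, ← mul_assoc, h.ut, mul_assoc, h.u2, mul_one]

theorem θy : Commute θ (z * z') := by
  have y3 := h.eJ _ h.yJ
  have h1 := h.KV (h.nJ h.θN h.yJ) (h.θtu ▸ SE.conj_comm (h.ty.mul_left h.uy))
    (h.θt ▸ SE.conj_comm h.ty)
  rcases (mem_z3 y3).1 h1 with e | e | e
  · exact absurd e (conj_ne_one h.y1)
  · exact mul_inv_eq_iff_eq_mul.1 e
  · have e1 : θ * (z * z')⁻¹ * θ⁻¹ = z * z' := by rw [← conj_inv, e, inv_inv]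
    have := h.θ3c h.yJ
    rw [e, e1, e] at this
    exact absurd this.symm (ne_inv3 y3 h.y1)

theorem e3J : z * z'⁻¹ ∈ J := mul_mem h.zJ (inv_mem h.z'J)
theorem e1J : θ * (z * z'⁻¹) * θ⁻¹ ∈ J := h.nJ h.θN h.e3J
theorem e2J : θ * (θ * (z * z'⁻¹) * θ⁻¹) * θ⁻¹ ∈ J := h.nJ h.θN h.e1J
theorem e31 : z * z'⁻¹ ≠ 1 := fun e => h.z'Q (mul_inv_eq_one.1 e ▸ h.zQ)

theorem fA : AH (ff z z' θ) := AH_f27 (h.eJ _ h.e1J) (h.eJ _ h.e2J) (h.eJ _ h.e3J)
  (h.comJ h.e1J h.e2J) (h.comJ h.e1J h.e3J) (h.comJ h.e2J h.e3J)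

theorem fJ (x : V27) : ff z z' θ x ∈ J :=
  mul_mem (pow_mem h.e1J _) (mul_mem (pow_mem h.e2J _) (pow_mem h.e3J _))

omit h [Finite G] in
theorem f1 : ff z z' θ (1, 0, 0) = θ * (z * z'⁻¹) * θ⁻¹ := by simp [ff, f27, ZMod.val_one]
omit h [Finite G] in
theorem f2 : ff z z' θ (0, 1, 0) = θ * (θ * (z * z'⁻¹) * θ⁻¹) * θ⁻¹ := by
  simp [ff, f27, ZMod.val_one]
omit h [Finite G] in
theorem f3 : ff z z' θ (0, 0, 1) = z * z'⁻¹ := by simp [ff, f27, ZMod.val_one]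

theorem mkAc {g : G} {w : W} (hn : g ∈ normalizer (J : Set G)) (c : Commute g (z * z'))
    (h1 : g * ff z z' θ (1, 0, 0) * g⁻¹ = ff z z' θ (act w (1, 0, 0)))
    (h2 : g * ff z z' θ (0, 1, 0) * g⁻¹ = ff z z' θ (act w (0, 1, 0)))
    (h3 : g * ff z z' θ (0, 0, 1) * g⁻¹ = ff z z' θ (act w (0, 0, 1))) :
    Ac J (z * z') (ff z z' θ) g w := ⟨hn, c, fun x => by
  rw [f1] at h1; rw [f2] at h2; rw [f3] at h3
  rw [← act_lin]; exact conj_f27 h.fA h1 h2 h3 x⟩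

theorem acJ {j : G} (hj : j ∈ J) : Ac J (z * z') (ff z z' θ) j 0 :=
  ⟨le_normalizer hj, h.comJ hj h.yJ, fun x => by rw [act_zero, h.cjJ hj (h.fJ x)]⟩

theorem te3 : t * (z * z'⁻¹) * t⁻¹ = z * z'⁻¹ :=
  mul_inv_eq_iff_eq_mul.2 (h.zt.mul_right h.z't.inv_right)

theorem ue3 : u * (z * z'⁻¹) * u⁻¹ = (z * z'⁻¹)⁻¹ := by
  calc _ = u * z * u⁻¹ * (u * z' * u⁻¹)⁻¹ := by group
    _ = _ := by rw [h.uz, h.uz']; group

theorem tue3 : t * u * (z * z'⁻¹) * (t * u)⁻¹ = (z * z'⁻¹)⁻¹ := by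
  calc _ = t * (u * (z * z'⁻¹) * u⁻¹) * t⁻¹ := by group
    _ = (t * (z * z'⁻¹) * t⁻¹)⁻¹ := by rw [h.ue3]; group
    _ = _ := by rw [h.te3]

theorem acT : Ac J (z * z') (ff z z' θ) t ((1, 0), 0, 0) := by
  refine h.mkAc (h.MN h.tM) h.ty ?_ ?_ ?_
  · rw [show act _ _ = -(1, 0, 0) by decide +kernel, h.fA.neg, f1, ← cji θ h.tue3, h.θtu]
  · rw [show act _ _ = -(0, 1, 0) by decide +kernel, h.fA.neg, f2, ← cji θ (cji θ h.ue3), h.θu,
      h.θtu]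
  · rw [show act _ _ = (0, 0, 1) by decide +kernel, f3, h.te3]

theorem acU : Ac J (z * z') (ff z z' θ) u ((0, 1), 0, 0) := by
  refine h.mkAc (h.MN h.uM) h.uy ?_ ?_ ?_
  · rw [show act _ _ = (1, 0, 0) by decide +kernel, f1]
    nth_rewrite 2 [← cjc θ h.te3]; rw [h.θt]
  · rw [show act _ _ = -(0, 1, 0) by decide +kernel, h.fA.neg, f2, ← cji θ (cji θ h.tue3), h.θtu,
      h.θt]
  · rw [show act _ _ = -(0, 0, 1) by decide +kernel, h.fA.neg, f3, h.ue3]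

theorem acθ : Ac J (z * z') (ff z z' θ) θ (0, 1, 0) := by
  refine h.mkAc h.θN h.θy ?_ ?_ ?_
  · rw [show act _ _ = (0, 1, 0) by decide +kernel, f1, f2]
  · rw [show act _ _ = (0, 0, 1) by decide +kernel, f2, f3, h.θ3c h.e3J]
  · rw [show act _ _ = (1, 0, 0) by decide +kernel, f1, f3]

theorem acΓ {g : G} (hg : g ∈ Γ J t u θ) : ∃ w : W, w.2.2 = 0 ∧ Ac J (z * z') (ff z z' θ) g w := by
  refine mem_of_closure (P := fun g => ∃ w : W, w.2.2 = 0 ∧ Ac J (z * z') (ff z z' θ) g w)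
    ⟨0, rfl, Ac.one⟩ ?_ ?_ hg
  · rintro x (hx | rfl | rfl | rfl)
    exacts [⟨0, rfl, h.acJ hx⟩, ⟨_, rfl, h.acT⟩, ⟨_, rfl, h.acU⟩, ⟨_, rfl, h.acθ⟩]
  · rintro _ _ ⟨w, e, h1⟩ ⟨w', e', h2⟩
    exact ⟨_, by simp [mw, e, e'], h1.mul h2⟩

theorem fy {x : V27} (hx : ff z z' θ x ∈ zpowers (z * z')) : x = 0 := by
  have k0 : ∀ i : ZMod 3, ff z z' θ (0, 0, i) = 1 → i = 0 := fun i e => by
    rcases (by decide : ∀ i : ZMod 3, i = 0 ∨ ((0, 0, i) : V27) = (0, 0, 1) ∨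
      ((0, 0, i) : V27) = -(0, 0, 1)) i with e1 | e1 | e1
    · exact e1
    · rw [e1, f3] at e; exact absurd e h.e31
    · rw [e1, h.fA.neg, f3, inv_eq_one] at e; exact absurd e h.e31
  have k1 : ∀ {g w x}, Ac J (z * z') (ff z z' θ) g w → ff z z' θ x = 1 →
      ff z z' θ (act w x) = 1 := fun h1 e => by rw [← h1.a, e]; group
  have k2 : ∀ {x x'}, ff z z' θ x = 1 → ff z z' θ x' = 1 → ff z z' θ (x + x') = 1 :=
    fun e e' => by rw [h.fA, e, e', one_mul]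
  have k3 : ∀ {g w}, Ac J (z * z') (ff z z' θ) g w → ff z z' θ (-x + act w x) = 1 := fun h1 => by
    obtain ⟨k, e⟩ := hx
    rw [h.fA.sub, ← h1.a, ← e, (h1.c.zpow_right k).eq]; group
  have a1 := k3 h.acT
  have a2 := k3 h.acU
  have b1 := k1 h.acθ (k1 h.acθ (k2 a1 (k1 h.acU a1)))
  have b2 := k1 h.acθ (k2 a1 (k2 a1 (k1 h.acU a1)))
  have b3 := k2 a2 (k1 h.acT a2)
  rw [(by decide +kernel : ∀ x : V27, act (0, 1, 0) (act (0, 1, 0) ((-x + act ((1, 0), 0, 0) x) +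
    act ((0, 1), 0, 0) (-x + act ((1, 0), 0, 0) x))) = (0, 0, -x.1)) x] at b1
  rw [(by decide +kernel : ∀ x : V27, act (0, 1, 0) ((-x + act ((1, 0), 0, 0) x) +
    ((-x + act ((1, 0), 0, 0) x) + act ((0, 1), 0, 0) (-x + act ((1, 0), 0, 0) x))) =
      (0, 0, x.2.1)) x] at b2
  rw [(by decide +kernel : ∀ x : V27, (-x + act ((0, 1), 0, 0) x) +
    act ((1, 0), 0, 0) (-x + act ((0, 1), 0, 0) x) = (0, 0, -x.2.2)) x] at b3
  exact Prod.ext (neg_eq_zero.1 (k0 _ b1)) (Prod.ext (k0 _ b2) (neg_eq_zero.1 (k0 _ b3)))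

theorem finj : Function.Injective (ff z z' θ) :=
  h.fA.inj fun _ e => h.fy (e ▸ one_mem _)

theorem decJ {j : G} (hj : j ∈ J) : ∃ v ∈ zpowers (z * z'), ∃ x, j = v * ff z z' θ x := by
  have y3 := h.eJ _ h.yJ
  have hA := (AH_cyc y3).prod h.fA fun _ x => h.comJ (pow_mem h.yJ _) (h.fJ x)
  have hi := hA.inj fun p e => by
    have e1 := h.fy (x := p.2) (by
      rw [eq_inv_of_mul_eq_one_right e]; exact inv_mem (pow_mem (mem_zpowers _) _))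
    rw [e1, h.fA.zero, mul_one, ← orderOf_dvd_iff_pow_eq_one,
      orderOf_eq_prime y3 h.y1] at e
    exact Prod.ext ((ZMod.val_eq_zero _).1 (Nat.eq_zero_of_dvd_of_lt e (ZMod.val_lt _))) e1
  have : hA.hom.range = J := eq_of_card (by
    rintro _ ⟨p, rfl⟩
    exact mul_mem (pow_mem h.yJ _) (h.fJ _)) (by
    rw [h.aJ.1, ← Nat.card_congr (MonoidHom.ofInjective (f := hA.hom) hi).toEquiv]; simp)
  obtain ⟨p, e⟩ := this.ge hj
  exact ⟨_, pow_mem (mem_zpowers _) _, _, e.symm⟩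

theorem kerA {g g' : G} {w : W} (h1 : Ac J (z * z') (ff z z' θ) g w)
    (h2 : Ac J (z * z') (ff z z' θ) g' w) : g'⁻¹ * g ∈ J := h.CJ fun j hj _ => by
  obtain ⟨_, ⟨k, rfl⟩, x, rfl⟩ := h.decJ hj
  refine Commute.mul_right ((h2.c.inv_left.mul_left h1.c).zpow_right k) ?_
  rw [Commute, SemiconjBy, ← mul_inv_eq_iff_eq_mul]
  calc _ = g'⁻¹ * (g * ff z z' θ x * g⁻¹) * g' := by group
    _ = _ := by rw [h1.a, ← h2.a]; group

theorem ker0 {g : G} (h1 : Ac J (z * z') (ff z z' θ) g 0) : g ∈ J := by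
  simpa using h.kerA h1 Ac.one

theorem gen1 {g : G} (hg : g ∈ normalizer (J : Set G)) (c : Commute g (z * z')) :
    ∃ γ ∈ Γ J t u θ, γ ∈ M0 ∧ γ * g * z * (γ * g)⁻¹ = z ∧ γ * g * z' * (γ * g)⁻¹ = z' := by
  have hm := h.nM g hg t h.tM
  have cm : Commute (g * t * g⁻¹) (z * z') := (c.mul_left h.ty).mul_left c.inv_left
  rcases v4_inv (π (g * t * g⁻¹)) (h.πev _ hm) (by rw [← h.hπ hm hm, conj_sq h.t2, h.hπ.one])
    (fun i j k => by
      have h1 := mul_mem (pow_mem h.tM i.val) (pow_mem h.uM j.val)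
      have h2 := mul_mem h1 (pow_mem h.θM k.val)
      have := h.nofix (mul_mem hm h2) h.yJ h.y1 (cm.mul_left
        (((h.ty.pow_left _).mul_left (h.uy.pow_left _)).mul_left (h.θy.pow_left _)))
      rwa [h.hπ hm h2, h.hπ h1 (pow_mem h.θM _), h.hπ (pow_mem h.tM _) (pow_mem h.uM _),
        h.hπ.pow h.tM, h.hπ.pow h.uM, h.hπ.pow h.θM, h.πt, h.πu, h.πθ] at this) with e | ⟨k, e⟩
  · exact absurd (eq_one_of_23 (conj_sq h.t2) (h.eJ _ ((h.πker _ hm).1 e))) (conj_ne_one h.t1)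
  have hk := pow_mem h.θM k.val
  have hn := h.eqπ (h.nM _ (h.MN hk) _ hm) h.tM (by
    rw [h.hπ.conj hk hm, h.hπ.pow h.θM, h.πθ, e, h.πt])
  obtain ⟨γ, h1, h2, ct, cy⟩ : ∃ γ ∈ Γ J t u θ, γ ∈ M0 ∧ Commute t (γ * g) ∧
      Commute (γ * g) (z * z') := by
    refine ⟨_, mul_mem (JΓ hn) (pow_mem θΓ k.val), mul_mem (h.JM hn) hk, ?_,
      (Commute.mul_left (h.comJ hn h.yJ) (h.θy.pow_left _)).mul_left c⟩
    rw [mul_assoc]
    exact (cent_adj (m := θ ^ k.val * g) (by group) h.t2 (h.eJ _ hn)).symm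
  have hN := mul_mem (h.MN h2) hg
  generalize hc : γ * g = c at ct cy hN
  have e0 : c * z' * c⁻¹ = (c * z * c⁻¹)⁻¹ * (z * z') := by
    calc _ = (c * z * c⁻¹)⁻¹ * (c * (z * z') * c⁻¹) := by group
      _ = _ := by rw [cy.eq, mul_inv_cancel_right]
  have e1 : c * u * z * (c * u)⁻¹ = c * z' * c⁻¹ := by rw [← h.uz]; group
  have s2 := h.nse (g := c * u) (e1 ▸ h.JS (h.nJ hN h.z'J))
    (e1 ▸ (ct.mul_right h.z't).mul_right ct.inv_right)
  rw [e1, e0] at s2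
  rcases h.singD (h.JS (h.nJ hN h.zJ)) ((ct.mul_right h.zt).mul_right ct.inv_right) with
    (e2 | e2) | e2 | e2
  · exact ⟨γ, h1, h2, hc ▸ e2, by rw [hc, e0, e2]; group⟩
  · refine absurd ?_ s2
    rw [e2, inv_inv, ← mul_assoc z, sq3 h.z3, h.zz'.inv_left.eq, ← inv_inv (z' * z⁻¹), ← conj_inv,
      mul_inv_rev z', inv_inv z, h.ue3]
  · refine ⟨u * γ, mul_mem uΓ h1, mul_mem h.uM h2, ?_, ?_⟩
    · calc _ = u * (γ * g * z * (γ * g)⁻¹) * u⁻¹ := by group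
        _ = z := by rw [hc, e2, h.uz']
    · calc _ = u * (γ * g * z' * (γ * g)⁻¹) * u⁻¹ := by group
        _ = z' := by rw [hc, e0, e2, h.zz'.eq, inv_mul_cancel_left, h.uz]
  · refine absurd ?_ s2
    rw [e2, inv_inv, h.zz'.eq, ← mul_assoc z', sq3 h.z'3, ← h.zz'.inv_right.eq, h.ue3]

theorem gen2 {γ g : G} (h1 : γ ∈ Γ J t u θ) (h2 : γ * g ∈ J ∨ γ * g * t ∈ J) : g ∈ Γ J t u θ := by
  rcases h2 with e | e
  · simpa using mul_mem (inv_mem h1) (JΓ e)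
  · simpa [mul_assoc] using mul_mem (mul_mem (inv_mem h1) (JΓ e)) (inv_mem tΓ)

theorem genA (hA : ∀ c ∈ NL z, ψ c = 1 → c * z * c⁻¹ = z) {g : G}
    (hg : g ∈ normalizer (J : Set G)) (c : Commute g (z * z')) : g ∈ Γ J t u θ := by
  obtain ⟨γ, h1, h2, e1, e2⟩ := h.gen1 hg c
  exact h.gen2 h1 (h.fixD (h.nfA hA (mul_mem (h.MN h2) hg)) e1 e2)

theorem genB {s : G} (hs : SB S Q J ψ t a s) {g : G} (hg : g ∈ normalizer (J : Set G))
    (c : Commute g (z * z')) : g ∈ Γ J t u θ ∨ g * (s * b) ∈ Γ J t u θ := by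
  obtain ⟨γ, h1, h2, e1, e2⟩ := h.gen1 hg c
  refine (h.nfB hs (mul_mem (h.MN h2) hg)).imp (fun e => h.gen2 h1 (h.fixD e e1 e2)) fun e =>
    h.gen2 h1 (h.fixD (by
      simpa only [mul_assoc] using Su3.In1.mul h.toSu3 e (Or.inl h.bM)) ?_ ?_)
  · calc _ = γ * g * (s * (b * z * b⁻¹) * s⁻¹) * (γ * g)⁻¹ := by group
      _ = z := by rw [h.bz, hs.inv _ (inv_mem h.zJ), inv_inv, e1]
  · calc _ = γ * g * (s * (b * z' * b⁻¹) * s⁻¹) * (γ * g)⁻¹ := by group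
      _ = z' := by rw [h.bz', hs.inv _ (inv_mem h.z'J), inv_inv, e2]

theorem exσ1 {s : G} (hs : SB S Q J ψ t a s) : ∃ γ ∈ Γ J t u θ, ∃ σ, σ = γ * (s * b) ∧
    σ * σ ∈ J ∧ Commute t σ ∧ σ * u * σ⁻¹ = t * u ∧ Ac J (z * z') (ff z z' θ) σ (0, 0, 1) := by
  have sN := h.NSM hs.sS
  have bN := h.MN h.bM
  have tu := mul_mem h.tM h.uM
  have c : Commute t u := h.ut.symm
  have ct : Commute t (s * b) := hs.st.mul_right h.bt.symm
  have n1 : s * b * u * (s * b)⁻¹ * (t * u)⁻¹ ∈ J := by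
    have m := h.nM b bN u h.uM
    convert mul_mem (h.scen hs (h.MN m)) (h.eqπ m tu (by
      rw [h.hπ.conj h.bM h.uM, h.hπ h.tM h.uM, h.πb, h.πu, h.πt]; decide +kernel)) using 1
    group
  have cn : Commute t (s * b * u * (s * b)⁻¹ * (t * u)⁻¹) :=
    ((ct.mul_right c).mul_right ct.inv_right).mul_right ((Commute.refl t).mul_right c).inv_right
  have en := inv_adj (v := s * b * u * (s * b)⁻¹) (t := t * u) (n := s * b * u * (s * b)⁻¹ * (t * u)⁻¹)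
    (by group) (conj_sq h.u2) (by
      rw [mul_assoc, ← mul_assoc u, ← c.eq, mul_assoc, h.u2, mul_one, h.t2]) (h.eJ _ n1)
  generalize s * b * u * (s * b)⁻¹ * (t * u)⁻¹ = n at n1 cn en
  have fx : ∀ x ∈ J, b * x * b⁻¹ = x⁻¹ → s * b * x * (s * b)⁻¹ = x := fun x hx e => by
    calc _ = s * (b * x * b⁻¹) * s⁻¹ := by group
      _ = x := by rw [e, hs.inv _ (inv_mem hx), inv_inv]
  have cy : Commute (s * b) (z * z') := mul_inv_eq_iff_eq_mul.1 (fx _ h.yJ (h.binv (h.JS h.yJ) h.ty))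
  have ce := fx _ h.e3J (h.binv (h.JS h.e3J) (h.zt.mul_right h.z't.inv_right))
  have key : ∀ γ ∈ M0, (π γ = u0 ∨ π γ = t0 * u0) → γ * (s * b) * (γ * (s * b)) ∈ J := fun γ hγ e => by
    have m := mul_mem h.bM hγ
    have h1 : γ * b * (γ * b) ∈ J := (h.πker _ (mul_mem (mul_mem hγ h.bM) (mul_mem hγ h.bM))).1 (by
      rw [h.hπ (mul_mem hγ h.bM) (mul_mem hγ h.bM), h.hπ hγ h.bM, h.πb]
      rcases e with e | e <;> rw [e] <;> decide +kernel)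
    convert mul_mem (h.nJ (h.MN hγ) (h.scen hs (h.MN m))) h1 using 1
    calc _ = γ * s * b * γ * s⁻¹ * (s * s) * b := by group
      _ = _ := by rw [hs.s2]; group
  obtain ⟨γ, g1, g2, g3, σ, e0, c1, c2, c3, c4⟩ : ∃ γ ∈ Γ J t u θ, γ ∈ M0 ∧ π γ = u0 ∧
      ∃ σ, σ = γ * (s * b) ∧ Commute t σ ∧ σ * u * σ⁻¹ = t * u ∧ Commute σ (z * z') ∧
      σ * (z * z'⁻¹) * σ⁻¹ = (z * z'⁻¹)⁻¹ := by
    refine ⟨u * n, mul_mem uΓ (JΓ n1), mul_mem h.uM (h.JM n1), by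
      rw [h.hπ h.uM (h.JM n1), h.πJ n1, h.πu, mul_one], _, rfl, (c.mul_right cn).mul_right ct, ?_,
      (h.uy.mul_left (h.comJ n1 h.yJ)).mul_left cy, ?_⟩
    · calc _ = u * (n * (s * b * u * (s * b)⁻¹) * n⁻¹) * u⁻¹ := by group
        _ = _ := by rw [en, ← mul_assoc u, mul_assoc (u * t), mul_inv_cancel, mul_one, c.eq]
    · calc _ = u * (n * (s * b * (z * z'⁻¹) * (s * b)⁻¹) * n⁻¹) * u⁻¹ := by group
        _ = _ := by rw [ce, h.cjJ n1 h.e3J, h.ue3]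
  have hN : σ ∈ normalizer (J : Set G) := e0 ▸ mul_mem (h.MN g2) (mul_mem sN bN)
  have fin : ∀ σ, σ ∈ normalizer (J : Set G) → σ * σ ∈ J → Commute σ (z * z') →
      σ * (z * z'⁻¹) * σ⁻¹ = (z * z'⁻¹)⁻¹ →
      σ * ff z z' θ (1, 0, 0) * σ⁻¹ = (ff z z' θ (0, 1, 0))⁻¹ →
      Ac J (z * z') (ff z z' θ) σ (0, 0, 1) := fun σ a1 a2 a3 a4 a5 => by
    refine h.mkAc a1 a3 ?_ ?_ ?_
    · rw [show act _ _ = -(0, 1, 0) by decide +kernel, h.fA.neg, a5]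
    · rw [show act _ _ = -(1, 0, 0) by decide +kernel, h.fA.neg, ← h.cjJ a2 (h.fJ (1, 0, 0)),
        ← inv_inv (ff z z' θ (0, 1, 0)), ← a5]
      simp only [mul_inv_rev, inv_inv, mul_assoc]
    · rw [show act _ _ = -(0, 0, 1) by decide +kernel, h.fA.neg, f3, a4]
  obtain ⟨v, hv, x, e⟩ := h.decJ (h.nJ hN (h.fJ (1, 0, 0)))
  have cv : ∀ {g}, Commute g (z * z') → Commute g v := fun hg => by
    obtain ⟨k, rfl⟩ := hv; exact hg.zpow_right k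
  have d1 : v * ff z z' θ (act ((1, 0), 0, 0) x) = (v * ff z z' θ x)⁻¹ := by
    calc _ = t * (v * ff z z' θ x) * t⁻¹ := by
          rw [← h.acT.a, ← mul_assoc, ← mul_assoc, ← (cv h.ty).eq]; group
      _ = σ * (t * ff z z' θ (1, 0, 0) * t⁻¹) * σ⁻¹ := by
          rw [← e]
          calc _ = t * σ * ff z z' θ (1, 0, 0) * (t * σ)⁻¹ := by group
            _ = _ := by rw [c1.eq]; group
      _ = _ := by rw [h.acT.a, show act _ _ = -(1, 0, 0) by decide +kernel, h.fA.neg, ← e]; group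
  have d2 : v * ff z z' θ (act (mw ((1, 0), 0, 0) ((0, 1), 0, 0)) x) = v * ff z z' θ x := by
    calc _ = t * u * (v * ff z z' θ x) * (t * u)⁻¹ := by
          rw [← (h.acT.mul h.acU).a, ← mul_assoc, ← mul_assoc, ← (cv (h.ty.mul_left h.uy)).eq]; group
      _ = σ * (u * ff z z' θ (1, 0, 0) * u⁻¹) * σ⁻¹ := by rw [← e, ← c2]; group
      _ = _ := by rw [h.acU.a, show act _ _ = (1, 0, 0) by decide +kernel, e]
  have d3 : ff z z' θ (act ((1, 0), 0, 0) x + x) = v⁻¹ * v⁻¹ := by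
    calc _ = v⁻¹ * (v * ff z z' θ (act ((1, 0), 0, 0) x)) * ff z z' θ x := by rw [h.fA]; group
      _ = _ := by rw [d1, h.comJ (zpowers_le.2 h.yJ hv) (h.fJ x)]; group
  have d4 := h.fy (d3 ▸ mul_mem (inv_mem hv) (inv_mem hv))
  rw [d4, h.fA.zero] at d3
  rw [inv_eq_one.1 (eq_one_of_23 d3.symm (h.eJ _ (inv_mem (zpowers_le.2 h.yJ hv)))), one_mul] at e
  rcases (by decide +kernel : ∀ x : V27, act ((1, 0), 0, 0) x + x = 0 →
    act (mw ((1, 0), 0, 0) ((0, 1), 0, 0)) x = x → x = 0 ∨ x = -(0, 1, 0) ∨ x = (0, 1, 0)) x d4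
    (h.finj (mul_left_cancel d2)) with rfl | rfl | rfl
  · rw [h.fA.zero, conj_eq_one_iff, ← h.fA.zero] at e
    exact absurd (h.finj e) (by decide)
  · have := e0 ▸ key γ g2 (Or.inl g3)
    exact ⟨γ, g1, σ, e0, this, c1, c2, fin σ hN this c3 c4 (by rw [e, h.fA.neg])⟩
  · have := key _ (mul_mem h.tM g2) (Or.inr (by rw [h.hπ h.tM g2, h.πt, g3]))
    rw [mul_assoc t, ← e0] at this
    refine ⟨t * γ, mul_mem tΓ g1, t * σ, by rw [e0, mul_assoc], this,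
      (Commute.refl t).mul_right c1, ?_, fin _ (mul_mem (h.MN h.tM) hN) this (h.ty.mul_left c3) ?_ ?_⟩
    · calc _ = t * (σ * u * σ⁻¹) * t⁻¹ := by group
        _ = _ := by rw [c2, c.eq]; nth_rewrite 2 [← c.eq]; group
    · calc _ = t * (σ * (z * z'⁻¹) * σ⁻¹) * t⁻¹ := by group
        _ = _ := by rw [c4, ← conj_inv, h.te3]
    · calc _ = t * (σ * ff z z' θ (1, 0, 0) * σ⁻¹) * t⁻¹ := by group
        _ = _ := by rw [e, h.acT.a, show act _ _ = -(0, 1, 0) by decide +kernel, h.fA.neg]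

end Su5

/-- The complement `S₄`. -/
structure Sg (J : Subgroup G) (y : G) (f : V27 → G) (t u θ σ : G) : Prop where
  aθ : Ac J y f θ (0, 1, 0)
  aσ : Ac J y f σ (0, 0, 1)
  θ3 : θ ^ 3 = 1
  σ2 : σ * σ = 1
  θt : θ * t * θ⁻¹ = u
  θu : θ * u * θ⁻¹ = t * u
  σt : σ * t * σ⁻¹ = t
  σu : σ * u * σ⁻¹ = t * u
  σθ : σ * θ * σ⁻¹ = θ⁻¹
  gen : ∀ g ∈ normalizer (J : Set G), Commute g y → ∃ w, Ac J y f g w

theorem Su5.exσ {S : Subgroup G} {z : G} {Q J L0 : Subgroup G} {ψ : G → P5} {t : G}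
    {M0 : Subgroup G} {π : G → P6} {a b u z' θ : G} (h : Su5 S z Q J L0 ψ t M0 π a b u z' θ)
    [Finite G] {s : G} (hs : SB S Q J ψ t a s) :
    ∃ θ' σ, Sg J (z * z') (ff z z' θ) t u θ' σ := by
  obtain ⟨γ, g1, σ1, e0, s2, c1, c2, ac⟩ := h.exσ1 hs
  have c : Commute t u := h.ut.symm
  have tt : t * (t * u) = u := by rw [← mul_assoc, h.t2, one_mul]
  have k1 : ∀ σ, Commute t σ → σ * u * σ⁻¹ = t * u → σ * (t * u) * σ⁻¹ = u := fun σ a1 a2 => by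
    calc _ = σ * t * σ⁻¹ * (σ * u * σ⁻¹) := by group
      _ = u := by rw [a2, ← a1.eq, mul_inv_cancel_right, tt]
  have c3 : Commute u (σ1 * σ1) := (mul_inv_eq_iff_eq_mul.1 (by
    calc _ = σ1 * (σ1 * u * σ1⁻¹) * σ1⁻¹ := by group
      _ = u := by rw [c2, k1 _ c1 c2])).symm
  obtain ⟨σ, σ2, d1, d2, aσ⟩ : ∃ σ, σ * σ = 1 ∧ Commute t σ ∧ σ * u * σ⁻¹ = t * u ∧
      Ac J (z * z') (ff z z' θ) σ (0, 0, 1) := by
    refine ⟨σ1 * σ1 * σ1, ?_, (c1.mul_right c1).mul_right c1, ?_, (h.acJ s2).mul ac⟩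
    · rw [← h.eJ _ s2, pow_three']; group
    · calc _ = σ1 * (σ1 * (σ1 * u * σ1⁻¹) * σ1⁻¹) * σ1⁻¹ := by group
        _ = _ := by rw [c2, k1 _ c1 c2, c2]
  have σi : σ⁻¹ = σ := inv_eq_of_mul_eq_one_right σ2
  have σt : σ * t * σ⁻¹ = t := by rw [← d1.eq, mul_inv_cancel_right]
  have hd : σ * θ * σ * θ ∈ J := h.ker0 (((aσ.mul h.acθ).mul aσ).mul h.acθ)
  have cy : ∀ {v g}, v ∈ zpowers (z * z') → Commute g (z * z') → Commute g v := fun hv hg => by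
    obtain ⟨k, rfl⟩ := hv; exact hg.zpow_right k
  have hy := h.KV hd (mul_inv_eq_iff_eq_mul.1 (by
    calc _ = σ * (θ * (σ * (θ * t * θ⁻¹) * σ⁻¹) * θ⁻¹) * σ⁻¹ := by group
      _ = t := by rw [h.θt, d2, h.θtu, σt])).symm (mul_inv_eq_iff_eq_mul.1 (by
    calc _ = σ * (θ * (σ * (θ * u * θ⁻¹) * σ⁻¹) * θ⁻¹) * σ⁻¹ := by group
      _ = u := by rw [h.θu, k1 _ d1 d2, h.θu, k1 _ d1 d2])).symm
  have e1 : σ * θ * σ⁻¹ = σ * θ * σ * θ * θ⁻¹ := by rw [σi]; group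
  generalize σ * θ * σ * θ = d at hd hy e1
  have cθ := cy hy h.θy
  have σθ : σ * (d * θ) * σ⁻¹ = (d * θ)⁻¹ := by
    calc _ = σ * d * σ⁻¹ * (σ * θ * σ⁻¹) := by group
      _ = _ := by
        rw [e1, (cy hy aσ.c).eq, mul_inv_cancel_right, ← mul_assoc, sq3 (h.eJ d hd), ← cθ.eq,
          mul_inv_rev]
  have e3 : (d * θ) ^ 3 = θ ^ 3 := by rw [cθ.symm.mul_pow, h.eJ d hd, one_mul]
  have k2 : ∀ {x}, θ * (θ * (θ * x * θ⁻¹) * θ⁻¹) * θ⁻¹ = x → Commute x (θ ^ 3) := fun e =>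
    (mul_inv_eq_iff_eq_mul.1 (by rw [pow_three']; nth_rewrite 2 [← e]; group)).symm
  have hy3 := h.KV h.θ3 (k2 (by rw [h.θt, h.θu, h.θtu])) (k2 (by rw [h.θu, h.θtu, h.θt]))
  refine ⟨d * θ, σ, (h.acJ hd).mul h.acθ, aσ, ?_, σ2, ?_, ?_, σt, d2, σθ, fun g hg cg => ?_⟩
  · have := conj_pow (a := σ) (b := d * θ) (i := 3)
    rw [σθ, inv_pow, e3, (cy hy3 aσ.c).eq, mul_inv_cancel_right] at this
    rw [e3]
    exact eq_one_of_23 (by nth_rewrite 1 [← this]; simp) (h.eJ _ h.θ3)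
  · calc _ = d * (θ * t * θ⁻¹) * d⁻¹ := by group
      _ = u := by rw [h.θt, ← (cy hy h.uy).eq, mul_inv_cancel_right]
  · calc _ = d * (θ * u * θ⁻¹) * d⁻¹ := by group
      _ = _ := by rw [h.θu, ← (cy hy (h.ty.mul_left h.uy)).eq, mul_inv_cancel_right]
  · rcases h.genB hs hg cg with e | e
    · exact (h.acΓ e).imp fun _ e => e.2
    · obtain ⟨w, -, a1⟩ := h.acΓ e
      obtain ⟨w', -, a2⟩ := h.acΓ g1
      have := ((a1.mul (h.acJ (inv_mem s2))).mul ac).mul a2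
      exact ⟨_, by convert this using 1; rw [e0]; group⟩

end H87.Mc
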