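import Cfsg.Agent.Lib.Mc3.Fin
import Cfsg.Agent.S2073

/-! The main theorem, given that the centraliser of `z z'` normalises `J`. -/

set_option autoImplicit false

namespace H87.Mc

open Subgroup Equiv Equiv.Perm H58 H58.Cd H58.St H58.SE Cfsg
open scoped Pointwise

variable {G : Type*} [Group G]

namespace Su4

variable {S : Subgroup G} {z : G} {Q J L0 : Subgroup G} {ψ : G → P5} {t : G} {M0 : Subgroup G}
  {π : G → P6} {a b u z' : G} (h : Su4 S z Q J L0 ψ t M0 π a b u z') [Finite G]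
  {s : G} (hs : SB S Q J ψ t a s)
include h hs

theorem st2 : s * t * (s * t) = 1 := by
  rw [mul_assoc, ← mul_assoc t, hs.st.eq, mul_assoc, h.t2, mul_one, hs.s2]

theorem sst : ∃ k, Commute t k ∧ k * s * k⁻¹ = s * t := by
  obtain ⟨l, hl, cl, e⟩ := h.liftL (p := swap 0 3 * swap 1 4) (by decide +kernel)
  have lN := h.LN hl
  have sN := h.NSL hs.sS
  have ca : Commute t a := h.at'.symm
  have h1 : l * a * l⁻¹ * a⁻¹ * t ∈ zpowers z := by
    have m1 := mul_mem (h.nL l lN a h.aL) (inv_mem h.aL)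
    refine (h.kerT (h.LC _ m1) (by
      rw [h.hψ.div (h.LN (h.nL l lN a h.aL)) h.aN, h.hψ.conj lN h.aN, e, h.ψa]; decide +kernel)
      (((cl.mul_right ca).mul_right cl.inv_right).mul_right ca.inv_right)).resolve_left fun e1 => ?_
    have e2 : l * l * t⁻¹ ∈ Q := (h.ker _ (mul_mem hl hl) (by
      rw [h.hψ lN lN, e]; decide +kernel)).resolve_left fun e2 => by
        have := h.sq l hl e2
        rw [e] at this; exact absurd this (by decide +kernel)
    have := h.sq _ (mul_mem hl h.aL) (by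
      convert mul_mem (h.ZQ e1) (h.nQ a h.aN _ e2) using 1
      calc l * a * (l * a) = l * a * l * (t * t)⁻¹ * a := by rw [h.t2]; group
        _ = l * a * l * t⁻¹ * (a * a)⁻¹ * a := by rw [h.a2]; group
        _ = _ := by group)
    rw [h.hψ lN h.aN, e, h.ψa] at this
    exact absurd this (by decide +kernel)
  have cN := mul_mem sN (inv_mem h.aN)
  have cc := hs.st.mul_right ca.inv_right
  have h2 : l * (s * a⁻¹) * l⁻¹ * (s * a⁻¹)⁻¹ ∈ zpowers z := by
    refine h.CQt ?_ (((cl.mul_right cc).mul_right cl.inv_right).mul_right cc.inv_right)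
    convert inv_mem (h.cen _ cN (by rw [h.hψ.div sN h.aN, hs.ψs, h.ψa, mul_inv_cancel]) l hl) using 1
    group
  have h3 : l * s * l⁻¹ * (s * t)⁻¹ ∈ zpowers z := by
    convert mul_mem h2 (nz cN h1) using 1
    calc _ = l * s * l⁻¹ * a⁻¹ * (a * t⁻¹ * s⁻¹) := by group
      _ = l * s * l⁻¹ * a⁻¹ * (t * a * s⁻¹) := by rw [h.ti, ca.eq]
      _ = _ := by group
  refine ⟨l * s * l⁻¹ * (s * t)⁻¹ * l, (((cl.mul_right hs.st).mul_right cl.inv_right).mul_right
    (hs.st.mul_right (Commute.refl t)).inv_right).mul_right cl, ?_⟩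
  convert inv_adj (v := l * s * l⁻¹) (t := s * t) (by group) (conj_sq hs.s2) (h.st2 hs)
    (h.Z3 h3) using 1
  group

theorem nst (g : G) : g * (s * t) * g⁻¹ ≠ t := by
  have : Fact (Nat.Prime 3) := ⟨by norm_num⟩
  intro e
  have tM := h.MN h.tM
  have hf : IsH J fun j => j * (t * j * t⁻¹)⁻¹ := fun x hx y hy => by
    calc _ = x * (y * (t * y * t⁻¹)⁻¹ * (t * x * t⁻¹)⁻¹) := by group
      _ = _ := by
        rw [h.comJ (mul_mem hy (inv_mem (h.nJ tM hy))) (inv_mem (h.nJ tM hx))]; group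
  have hW : ∀ x ∈ hf.im, x ∈ J ∧ t * x * t⁻¹ = x⁻¹ := fun x hx => by
    obtain ⟨j, hj, rfl⟩ := hf.mem_im.1 hx
    refine ⟨mul_mem hj (inv_mem (h.nJ tM hj)), ?_⟩
    calc _ = t * j * t⁻¹ * ((t * t) * j * (t * t)⁻¹)⁻¹ := by group
      _ = _ := by rw [h.t2]; group
  have cW := hf.card_eq' (A := hf.im) (K := S ⊓ centralizer {t}) (fun _ => hf.mem_im) fun j =>
    ⟨fun hj => ⟨h.DJ hj.1 (mc.1 hj.2), by rw [(mc.1 hj.2).eq]; group⟩, fun hj => ⟨h.JS hj.1, mc.2
      (mul_inv_eq_iff_eq_mul.1 (mul_inv_eq_one.1 hj.2).symm)⟩⟩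
  rw [h.aJ.1, h.cD] at cW
  obtain ⟨k, -, hk⟩ := H4.exists_conj_le_of_not_dvd_relIndex (K := centralizer {t})
    (h.pS.to_le (inf_le_left : S ⊓ centralizer {t} ≤ S)) (fun e1 => h.n27 (by
      rw [← H1.card_mul_relIndex_of_le (inf_le_right : S ⊓ centralizer {t} ≤ _), h.cD]
      exact Nat.mul_dvd_mul_left 9 e1))
    (H4.isPGroup_conj_smul (h.aJ.pg.to_le fun x hx => (hW x hx).1) g) fun y hy => mc.2 (by
      obtain ⟨h1, h2⟩ := hW _ (H1.mem_conj_smul_iff.1 hy)
      have h3 := hs.inv _ (inv_mem h1)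
      rw [← h2] at h3
      rw [← e, Commute, SemiconjBy, ← mul_inv_eq_iff_eq_mul]
      calc _ = g * (s * (t * (g⁻¹ * y * g) * t⁻¹) * s⁻¹) * g⁻¹ := by group
        _ = y := by rw [h3, h2]; group)
  have h1 : MulAut.conj (k * g) • hf.im = S ⊓ centralizer {t} := eq_of_card (fun y hy => by
    have := hk _ (H1.conj_mem_conj_smul (g := g) (H1.mem_conj_smul_iff.1 hy))
    convert this using 1; group) (by rw [H1.card_conj_smul, h.cD]; omega)
  obtain ⟨h2, h3⟩ := hW _ (H1.mem_conj_smul_iff.1 (h1.ge (h.ZD.le (mem_zpowers z))))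
  rw [← inv_inv (k * g)] at h2 h3
  rw [inv_inv (k * g)⁻¹] at h2 h3
  generalize (k * g)⁻¹ = x at h2 h3
  have h4 : x * z * x⁻¹ ∈ Q := h.SQ (h.JS h2) (by
    have := h.hψ.conj h.tN (h.JN h2)
    rw [h3, h.ψt, h.hψ.inv (h.JN h2), one_mul, inv_one, mul_one] at this
    refine eq_one_of_23 (by nth_rewrite 1 [← this]; simp) ?_
    rw [← h.hψ.pow (h.JN h2), h.eJ _ h2, h.hψ.one])
  rw [Su1.fixZ h.tz (nz (h.sing1 h2 h4) (mem_zpowers z))] at h3
  exact ne_inv3 (conj3 h.z3 x) (conj_ne_one h.z1) h3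

theorem w2 : (s * b) ^ 3 * (s * b) ^ 3 = t := by
  have cb : Commute t b := h.bt.symm
  have h1 := h.scen hs (h.MN h.bM)
  have si : s⁻¹ = s := inv_eq_of_mul_eq_one_right hs.s2
  have c : Commute t (s * b * s⁻¹ * b⁻¹) :=
    ((hs.st.mul_right cb).mul_right hs.st.inv_right).mul_right cb.inv_right
  calc _ = (s * b * (s * b)) ^ 3 := by rw [← pow_two, ← pow_two, ← pow_mul, ← pow_mul]
    _ = (s * b * s⁻¹ * b⁻¹ * t) ^ 3 := by rw [← h.b2, si]; congr 1; group
    _ = t := by rw [c.symm.mul_pow, h.eJ _ h1, pow_three', h.t2]; simp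

end Su4

namespace Kb

variable {S : Subgroup G} {z : G} {Q J L0 : Subgroup G} {ψ : G → P5} {t : G} {M0 : Subgroup G}
  {π : G → P6} {a b u z' : G} {X : Type*} [Group X] {χ : G → X} {φ : G → P3} {m : PH PP X}
  (k : Kb z t ψ z' χ φ m) (h : Su4 S z Q J L0 ψ t M0 π a b u z') [Finite G]
  {s : G} (hs : SB S Q J ψ t a s)
include k h hs

theorem parity (E : X ≃* S8.P8) {b' : X} (hw : b' * m.f (1, ω) * b'⁻¹ = m.f (ρ, τ)) {g : G}
    (hg : g ∈ centralizer {t} ⊓ NL z) : sign (E (χ g)) = sign (φ g) * sign (ψ g) := by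
  have top := k.top h hs
  let f3 : P3 →* ℤˣ := MonoidHom.mk' (fun p => sign (E (m.f (p, 1)))) fun p q => by
    rw [← map_mul, ← map_mul, ← m.mul (top _) (top _), Prod.mk_mul_mk, one_mul]
  let f5 : P5 →* ℤˣ := MonoidHom.mk' (fun p => sign (E (m.f (1, p)))) fun p q => by
    rw [← map_mul, ← map_mul, ← m.mul (top _) (top _), Prod.mk_mul_mk, one_mul]
  have e : ∀ p q, sign (E (m.f (p, q))) = f3 p * f5 q := fun p q => by
    change _ = sign (E _) * sign (E _)
    rw [← map_mul, ← map_mul, ← m.mul (top _) (top _), Prod.mk_mul_mk, one_mul, mul_one]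
  have e1 : f3 ρ * f5 τ = f5 ω := by
    rw [← e, ← hw]
    rw [map_mul, map_mul, map_mul, map_mul, map_inv, sign_inv, mul_right_comm, Int.units_mul_self,
      one_mul]
    rfl
  have s1 : sign ρ = -1 := by decide +kernel
  have s2 : sign τ = -1 := by decide +kernel
  have s3 : sign ω = 1 := by decide +kernel
  rw [← k.mf g hg, e]
  rcases hom_sign f3 with e3 | e3 <;> rcases hom_sign f5 with e5 | e5 <;> rw [e3, e5] at e1 ⊢
  · exfalso
    obtain ⟨q, hq, c⟩ := odd_comm (p := E (St.e m 1 0)) (by rw [← map_pow, (k.ba h).e_cube, map_one])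
    obtain ⟨⟨p1, p2⟩, -, e2⟩ := m.mem_range.1 ((k.ba h).mem_L_of_comm (g := E.symm q) one_ne_zero
      (E.injective (by simpa using c)))
    have := e p1 p2
    rw [e2, e3, e5, MulEquiv.apply_symm_apply, hq] at this
    simp at this
  · simp [s2, s3] at e1
  · simp [s1] at e1

omit hs in
theorem cls (E : X ≃* S8.P8) {x y : G} (hx : Commute t x) (hy : Commute t y)
    (e : IsConj (E (χ x)) (E (χ y))) : ∃ g, Commute t g ∧ (g * x * g⁻¹ = y ∨ g * x * g⁻¹ = y * t) := by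
  obtain ⟨q, e⟩ := isConj_iff.1 e
  obtain ⟨g, hg, e1⟩ := k.sur (E.symm q)
  have c := mc.1 hg
  refine ⟨g, c, k.eqχ h ((c.mul_right hx).mul_right c.inv_right) hy (E.injective ?_)⟩
  rw [k.hχ.conj hg (mc.2 hx), e1, ← e]; simp

omit hs in
theorem cls2 (E : X ≃* S8.P8) {x y v : G} (hx : Commute t x) (hy : Commute t y) (hv : Commute t v)
    (x2 : x * x = 1) (x1 : x ≠ 1) (xt : x ≠ t) (y2 : y * y = t) (v2 : v * v = 1) (v1 : v ≠ 1)
    (vt : v ≠ t) (e1 : sign (E (χ x)) = sign (E (χ v))) (e2 : sign (E (χ y)) = sign (E (χ v))) :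
    ∃ g, Commute t g ∧ (g * v * g⁻¹ = x ∨ g * v * g⁻¹ = x * t) := by
  have sq : ∀ w, Commute t w → w * w = 1 ∨ w * w = t → E (χ w) * E (χ w) = 1 := fun w hw e => by
    rw [← map_mul, ← k.hχ (mc.2 hw) (mc.2 hw), (k.ker _ (mc.2 (hw.mul_right hw))).2 e, map_one]
  have ne : ∀ w, Commute t w → w ≠ 1 → w ≠ t → E (χ w) ≠ 1 := fun w hw e1 e2 e =>
    ((k.ker w (mc.2 hw)).1 (E.map_eq_one_iff.1 e)).elim e1 e2
  have nc : ∀ w, Commute t w → w * w = 1 → ¬ IsConj (E (χ w)) (E (χ y)) := fun w hw w2 e => by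
    obtain ⟨g, -, e⟩ := k.cls h E hw hy e
    have := conj_sq (g := g) w2
    rcases e with e | e <;> rw [e] at this
    · exact h.t1 (y2.symm.trans this)
    · rw [mul_assoc, ← mul_assoc t, hy.eq, mul_assoc, h.t2, mul_one, y2] at this
      exact h.t1 this
  exact k.cls h E hv hx ((s8_two (sq x hx (Or.inl x2)) (sq y hy (Or.inr y2)) (sq v hv (Or.inl v2))
    (ne x hx x1 xt) (ne y hy (fun e => h.t1 (by rw [← y2, e, one_mul])) fun e => h.t1 (by
      rw [← y2, e, h.t2])) (ne v hv v1 vt) e1 e2 (nc x hx x2)).resolve_right (nc v hv v2))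

theorem finB (HY : ∀ c, c * (z * z') = z * z' * c → c ∈ normalizer (J : Set G)) :
    ∃ N : Subgroup G, N.Normal ∧ N.index = 2 ∧ S ≤ N ∧ Nonempty (N ≃* Spor.McL) := by
  have := k.finX h
  obtain ⟨b', hb', hw⟩ := k.goodB h hs HY
  obtain ⟨E⟩ := sym8' hb' (k.top h hs) hw
  have par := fun g hg => k.parity h hs E hw (g := g) hg
  have sω : sign ω = 1 := by decide +kernel
  have sι : sign ι5 = -1 := by decide +kernel
  have pa : sign (E (χ a)) = 1 := by
    rw [par a (k.aK h), (k.sg a (k.aK h)).2 h.az, h.ψa, sω, one_mul]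
  have ps : sign (E (χ s)) = -1 := by rw [par s (k.sK h hs), k.sgs h hs, hs.ψs, sω, mul_one]
  have pb : sign (E (χ b)) = 1 := by rw [par b (k.bK h), k.sgb h, h.ψb, sι]; simp
  have hsg : IsH (centralizer {t}) fun g => sign (E (χ g)) := fun x hx y hy => by
    simp only [k.hχ hx hy, map_mul]
  have sK := (k.sK h hs).1
  have tK := (k.tK h).1
  have pt : sign (E (χ t)) = 1 := by simp [k.χt h]
  have wK := pow_mem (mul_mem sK (k.bK h).1) 3
  have pw : sign (E (χ ((s * b) ^ 3))) = -1 := by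
    rw [hsg.pow (mul_mem sK (k.bK h).1), hsg.mul sK (k.bK h).1, ps, pb]; decide
  have pst : sign (E (χ (s * t))) = -1 := by rw [hsg.mul sK tK, ps, pt, mul_one]
  have s1 : s ≠ 1 := fun e => by rw [e, hsg.one] at ps; exact absurd ps (by decide)
  have st : s ≠ t := fun e => by rw [e, pt] at ps; exact absurd ps (by decide)
  obtain ⟨ks, cks, eks⟩ := h.sst hs
  have odd : ∀ v, Commute t v → v * v = 1 → sign (E (χ v)) = -1 → ∃ g, Commute t g ∧
      g * v * g⁻¹ = s * t := fun v hv v2 e => by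
    obtain ⟨g, cg, e1 | e1⟩ := k.cls2 h E hs.st (mc.1 wK) hv hs.s2 s1 st (h.w2 hs) v2
      (fun e1 => by rw [e1, hsg.one] at e; exact absurd e (by decide))
      (fun e1 => by rw [e1, pt] at e; exact absurd e (by decide)) (ps.trans e.symm) (pw.trans e.symm)
    · exact ⟨ks * g, cks.mul_right cg, by rw [← eks, ← e1]; group⟩
    · exact ⟨g, cg, e1⟩
  have cu : Commute t u := h.ut.symm
  have u1 : u ≠ 1 := fun e => by
    have := h.πu
    rw [e, h.hπ.one] at this; exact absurd this (by decide +kernel)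
  have ut : u ≠ t := fun e => by
    have := h.πu
    rw [e, h.πt] at this; exact absurd this (by decide +kernel)
  obtain ⟨gu, egu⟩ := h.invM h.uM h.u2 u1
  have pu : sign (E (χ u)) = 1 := (Int.units_eq_one_or _).resolve_right fun e => by
    obtain ⟨g, -, e1⟩ := odd u cu h.u2 e
    exact h.nst hs (gu * g⁻¹) (by rw [← e1, ← egu]; group)
  obtain ⟨ku, cku, eku⟩ := h.uut
  have even : ∀ v, Commute t v → v * v = 1 → v ≠ 1 → v ≠ t → sign (E (χ v)) = 1 →
      ∃ g, Commute t g ∧ g * v * g⁻¹ = u := fun v hv v2 v1 vt e => by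
    obtain ⟨g, cg, e1 | e1⟩ := k.cls2 h E cu h.at'.symm hv h.u2 u1 ut h.a2 v2 v1 vt
      (pu.trans e.symm) (pa.trans e.symm)
    · exact ⟨g, cg, e1⟩
    · exact ⟨ku⁻¹ * g, cku.inv_right.mul_right cg, by
        rw [← eku] at e1
        calc _ = ku⁻¹ * (g * v * g⁻¹) * ku := by group
          _ = u := by rw [e1]; group⟩
  have hodd := odd_index h.t2 h.t1 fun v hv v2 v1 vt => by
    have key : ∀ g x l, Commute t g → Commute t l → g * v * g⁻¹ = x → l * x * l⁻¹ = x * t →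
        ∃ k, Commute t k ∧ k * v * k⁻¹ = v * t := fun g x l cg cl e1 e2 =>
      ⟨g⁻¹ * l * g, (cg.inv_right.mul_right cl).mul_right cg, by
        calc _ = g⁻¹ * (l * (g * v * g⁻¹) * l⁻¹) * g := by group
          _ = v * (g⁻¹ * (t * g)) := by rw [e1, e2, ← e1]; group
          _ = _ := by rw [cg.eq]; group⟩
    rcases Int.units_eq_one_or (sign (E (χ v))) with e | e
    · obtain ⟨g, cg, e1⟩ := even v hv v2 v1 vt e
      exact key g u ku cg cku e1 eku
    · obtain ⟨g, cg, e1⟩ := odd v hv v2 e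
      refine key g (s * t) ks⁻¹ cg cks.inv_right e1 ?_
      rw [mul_assoc s, h.t2, mul_one, ← eks]; group
  have hrel : (hsg.pre ⊥).relIndex (centralizer {t}) = 2 := by
    have e1 := hsg.card_eq' (A := ⊤) (K := hsg.pre ⊥) (fun x => ⟨fun _ => by
      rcases Int.units_eq_one_or x with rfl | rfl
      exacts [⟨t, tK, pt⟩, ⟨s, sK, ps⟩], fun _ => trivial⟩) fun g => by rw [hsg.mem_pre, mem_bot]
    have e2 := H1.card_mul_relIndex_of_le (show hsg.pre ⊥ ≤ _ from fun g hg => (hsg.mem_pre.1 hg).1)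
    rw [e1, mul_comm, card_top] at e2
    simpa using Nat.eq_of_mul_eq_mul_right Nat.card_pos e2
  have st1 : s * t ≠ 1 := fun e => by rw [e, hsg.one] at pst; exact absurd pst (by decide)
  obtain ⟨N, hN, iN, hx⟩ := H73.thompson_transfer _ _ hodd hrel (s * t)
    (orderOf_eq_prime (hp := ⟨Nat.prime_two⟩) (pow_two (s * t) ▸ h.st2 hs) st1) fun g hg => by
      obtain ⟨h1, h2⟩ := hsg.mem_pre.1 hg
      obtain ⟨l, -, e⟩ := even _ (mc.1 h1) (conj_sq (h.st2 hs)) (conj_ne_one st1) (h.nst hs g) h2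
      exact h.nst hs (gu * l * g) (by nth_rewrite 2 [← egu]; rw [← e]; group)
  have tN : t ∈ N := h.a2 ▸ mul_self_mem_of_index_two iN a
  have hν : ∀ g ∈ centralizer {t}, g ∈ N ↔ sign (E (χ g)) = 1 := by
    choose r hr er using k.sur
    have key : ∀ g ∈ centralizer {t}, H73.signHom N iN (r (χ g)) = H73.signHom N iN g := fun g hg => by
      rcases k.eqχ h (mc.1 (hr _)) (mc.1 hg) (er _) with e | e <;> rw [e]
      rw [map_mul, H73.signHom_of_mem iN tN, mul_one]
    let η : S8.P8 →* ℤˣ := MonoidHom.mk' (fun p => H73.signHom N iN (r (E.symm p))) fun p q => by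
      rw [← map_mul, ← key _ (mul_mem (hr _) (hr _)), k.hχ (hr _) (hr _), er, er, map_mul]
    have e1 : ∀ g ∈ centralizer {t}, η (E (χ g)) = H73.signHom N iN g := fun g hg => by
      rw [← key g hg]; simp [η]
    rcases hom_sign η with e | e
    · have := e1 _ (mul_mem sK tK)
      rw [e, H73.signHom_of_notMem iN hx, MonoidHom.one_apply] at this
      exact absurd this (by decide)
    · intro g hg
      rw [← e, e1 g hg, H73.signHom_eq_one_iff]
  have hS : S ≤ N := H1.le_of_coprime_index (by rw [h.cS, iN]; norm_num)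
  classical
  let f : G → alternatingGroup (Fin 8) := fun g =>
    if hg : E (χ g) ∈ alternatingGroup (Fin 8) then ⟨_, hg⟩ else 1
  have hf : ∀ g ∈ centralizer {t} ⊓ N, (f g : S8.P8) = E (χ g) := fun g hg => by
    simp only [f, dif_pos (mem_alternatingGroup.2 ((hν g hg.1).1 hg.2))]
  refine ⟨N, hN, iN, hS, h.fin hS ((hν a (k.aK h).1).2 pa) (f := f) (fun x hx y hy => Subtype.ext ?_)
    (fun x => ?_) fun g hg => ?_⟩
  · rw [Subgroup.coe_mul, hf _ (mul_mem hx hy), hf x hx, hf y hy, k.hχ hx.1 hy.1, map_mul]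
  · obtain ⟨g, hg, e⟩ := k.sur (E.symm x)
    have h1 : g ∈ centralizer {t} ⊓ N := ⟨hg, (hν g hg).2 (by
      rw [e, MulEquiv.apply_symm_apply]; exact mem_alternatingGroup.1 x.2)⟩
    exact ⟨g, h1, Subtype.ext (by rw [hf g h1, e, MulEquiv.apply_symm_apply])⟩
  · rw [Subtype.ext_iff, hf g hg, ← k.ker g hg.1]; exact E.map_eq_one_iff

end Kb

theorem Su4.main {S : Subgroup G} {z : G} {Q J L0 : Subgroup G} {ψ : G → P5} {t : G}
    {M0 : Subgroup G} {π : G → P6} {a b u z' : G} (h : Su4 S z Q J L0 ψ t M0 π a b u z') [Finite G]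
    (HY : ∀ c, c * (z * z') = z * z' * c → c ∈ normalizer (J : Set G)) :
    ∃ N : Subgroup G, N.Normal ∧ (N = ⊤ ∨ N.index = 2) ∧ centralizer (N : Set G) = ⊥ ∧
      Nonempty (N ≃* Spor.McL) := by
  have : ((zpowers t).subgroupOf (centralizer {t})).Normal :=
    (normal_subgroupOf_iff_le_normalizer (zpowers_le.2 (mc.2 (Commute.refl t)))).2
      fun g hg => mem_normalizer_fintype (by
        rintro _ ⟨j, rfl⟩
        exact ⟨j, by rw [← ((mc.1 hg).zpow_left j).eq]; simp⟩)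
  obtain ⟨χ, h1, h2, h3⟩ := exists_qm (centralizer {t}) (zpowers t)
  obtain ⟨φ, m, k⟩ := h.exists_Kb h1 h2 fun g hg => (h3 g hg).trans (mem_z2 h.t2)
  by_cases hA : ∀ c ∈ NL z, ψ c = 1 → c * z * c⁻¹ = z
  · obtain ⟨E⟩ := k.altA h HY hA
    refine ⟨⊤, inferInstance, Or.inl rfl, h.cenN le_top, h.fin le_top trivial (f := fun g => E (χ g))
      (fun x hx y hy => by simp only [h1 hx.1 hy.1, map_mul]) (fun x => ?_) fun g hg => ?_⟩
    · obtain ⟨g, hg, e⟩ := h2 (E.symm x)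
      exact ⟨g, ⟨hg, trivial⟩, by simp [e]⟩
    · rw [← k.ker g hg.1]; exact E.map_eq_one_iff
  · push Not at hA
    obtain ⟨c, hc, e1, e2⟩ := hA
    obtain ⟨s, hs⟩ := h.existsB ((h.memL.1 hc).resolve_left e2) e1
    obtain ⟨N, hN, iN, hS, e⟩ := k.finB h hs HY
    exact ⟨N, hN, Or.inr iN, h.cenN hS, e⟩

theorem mcl_or_aut [Finite G] {N : Subgroup G} [N.Normal] (h1 : N = ⊤ ∨ N.index = 2)
    (h2 : centralizer (N : Set G) = ⊥) (E : N ≃* Spor.McL) :
    Nonempty (G ≃* Spor.McL) ∨ Nonempty (G ≃* MulAut Spor.McL) := by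
  rcases h1 with rfl | h1
  · exact Or.inl ⟨topEquiv.symm.trans E⟩
  have : Finite Spor.McL := Finite.of_equiv _ E.toEquiv
  let f : G →* MulAut Spor.McL := (MulAut.congr E).toMonoidHom.comp MulAut.conjNormal
  have hf : Function.Injective f := (MulAut.congr E).injective.comp (by
    rw [injective_iff_map_eq_one]
    intro g hg
    refine mem_bot.1 (h2 ▸ fun n hn => ?_)
    have : g * n * g⁻¹ = n := congrArg Subtype.val (MulEquiv.congr_fun hg ⟨n, hn⟩)
    exact (mul_inv_eq_iff_eq_mul.1 this).symm)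
  refine Or.inr ⟨MulEquiv.ofBijective f (hf.bijective_of_nat_card_le ?_)⟩
  rw [card_eq_card_quotient_mul_card_subgroup (Inn Spor.McL), Agent.S2073.result,
    ← N.index_mul_card, h1, Nat.card_congr E.toEquiv]
  exact Nat.mul_le_mul_left _ (Nat.card_le_card_of_surjective _ MulAut.conj.rangeRestrict_surjective)

end H87.Mc
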