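import Cfsg.Agent.Lib.Mc3.Wl
import Cfsg.Agent.Lib.Mc3.Main
import Cfsg.Agent.Lib.A9.H648
import Cfsg.Agent.S3701

/-! The centraliser of `z z'` normalises `J`. -/

set_option autoImplicit false

namespace H87.Mc

open Subgroup Equiv Equiv.Perm H58 H58.Cd H58.St H58.SE H53.Odd Cfsg
open H58.N9 (W act mw kap r3 sg)
open scoped Pointwise

theorem wp_A : ∀ w : W, w.2.2 = 0 → wp w 3 = 0 ∨
    mw (wp ((1, 0), 0, 0) w.1.1.val) (wp ((0, 1), 0, 0) w.1.2.val) = w := by decide +kernel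
theorem wp_B : ∀ w : W, mw (mw (mw (wp ((1, 0), 0, 0) w.1.1.val) (wp ((0, 1), 0, 0) w.1.2.val))
    (wp (0, 1, 0) w.2.1.val)) (wp (0, 0, 1) w.2.2.val) = w := by decide +kernel
theorem act_inj : ∀ w w' : W, act w (1, 0, 0) = act w' (1, 0, 0) →
    act w (0, 1, 0) = act w' (0, 1, 0) → w = w' := by decide +kernel

variable {G : Type*} [Group G]

theorem mdl_sub {H X : Subgroup G} {M : Type*} {mul : M → M → M} {φ : M → G} (h : Mdl H mul φ)
    (hX : H ≤ X) : Mdl (H.subgroupOf X) mul fun p => (⟨φ p, hX ((h.mem _).2 ⟨p, rfl⟩)⟩ : X) :=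
  ⟨fun p q => Subtype.ext (h.hom p q), fun _ _ e => h.inj (congrArg Subtype.val e),
    fun g => (h.mem g).trans (exists_congr fun _ => ⟨fun e => Subtype.ext e, congrArg Subtype.val⟩)⟩

/-- the complement -/
def sp (t u θ σ : G) (w : W) : G := t ^ w.1.1.val * u ^ w.1.2.val * θ ^ w.2.1.val * σ ^ w.2.2.val

theorem sp_mul {J : Subgroup G} {y : G} {f : V27 → G} {t u θ σ : G} (k : Sg J y f t u θ σ)
    (t2 : t * t = 1) (u2 : u * u = 1) (c : Commute t u) (w w' : W) :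
    sp t u θ σ (mw w w') = sp t u θ σ w * sp t u θ σ w' := by
  have hA : AH fun v : ZMod 2 × ZMod 2 => t ^ v.1.val * u ^ v.2.val :=
    (AH_cyc (by rw [pow_two, t2])).prod (AH_cyc (by rw [pow_two, u2])) fun _ _ => c.pow_pow _ _
  have hθ := AH_cyc k.θ3
  have hσ := AH_cyc (n := 2) (a := σ) (by rw [pow_two, k.σ2])
  generalize hA' : (fun v : ZMod 2 × ZMod 2 => t ^ v.1.val * u ^ v.2.val) = A at hA
  have eA : ∀ v : ZMod 2 × ZMod 2, t ^ v.1.val * u ^ v.2.val = A v := fun v => congrFun hA' v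
  have cj : ∀ {g p q}, g * t * g⁻¹ = A p → g * u * g⁻¹ = A q → ∀ v,
      g * A v * g⁻¹ = A (v.1.val • p + v.2.val • q) := fun {g p q} e1 e2 v => by
    rw [hA, hA.nsmul, hA.nsmul, ← e1, ← e2, conj_pow, conj_pow, ← eA]; group
  have a1 : t = A (1, 0) := by rw [← eA]; simp [ZMod.val_one]
  have a2 : u = A (0, 1) := by rw [← eA]; simp [ZMod.val_one]
  have a3 : t * u = A (1, 1) := by rw [← eA]; simp [ZMod.val_one]
  have b1 : ∀ v, θ * A v * θ⁻¹ = A (r3 1 v) := fun v => by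
    rw [cj (k.θt.trans a2) (k.θu.trans a3)]; congr 1; revert v; decide
  have b2 : ∀ (i : ZMod 3) v, θ ^ i.val * A v = A (r3 i v) * θ ^ i.val := fun i v => by
    rw [← mul_inv_eq_iff_eq_mul]
    rcases (by decide : ∀ i : ZMod 3, i = 0 ∨ i = 1 ∨ i = 1 + 1) i with rfl | rfl | rfl
    · simp [r3]
    · simpa [ZMod.val_one] using b1 v
    · rw [show θ ^ _ = _ from hθ 1 1, ← (by decide : ∀ v, r3 1 (r3 1 v) = r3 (1 + 1) v) v, ← b1, ← b1]
      simp [ZMod.val_one, mul_assoc]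
  have b3 : ∀ (l : ZMod 2) (v : ZMod 2 × ZMod 2), σ ^ l.val * A v =
      A (if l = 0 then v else (v.1 + v.2, v.2)) * σ ^ l.val := fun l v => by
    rw [← mul_inv_eq_iff_eq_mul]
    rcases (by decide : ∀ i : ZMod 2, i = 0 ∨ i = 1) l with rfl | rfl
    · simp
    · rw [ZMod.val_one, pow_one, cj (k.σt.trans a1) (k.σu.trans a3)]; congr 1; revert v; decide
  have b4 : ∀ (l : ZMod 2) (i : ZMod 3), σ ^ l.val * θ ^ i.val = θ ^ (sg l i).val * σ ^ l.val :=
    fun l i => by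
    rw [← mul_inv_eq_iff_eq_mul]
    rcases (by decide : ∀ i : ZMod 2, i = 0 ∨ i = 1) l with rfl | rfl
    · simp [sg]
    · rw [ZMod.val_one, pow_one, ← conj_pow, k.σθ, show sg 1 i = -i from rfl, hθ.neg, inv_pow]
  simp only [sp, eA, mw]
  rw [hA, show θ ^ _ = _ from hθ _ _, show σ ^ _ = _ from hσ _ _]
  calc _ = A w.1 * (A (r3 w.2.1 (if w.2.2 = 0 then w'.1 else (w'.1.1 + w'.1.2, w'.1.2))) *
        θ ^ w.2.1.val) * (θ ^ (sg w.2.2 w'.2.1).val * σ ^ w.2.2.val) * σ ^ w'.2.2.val := by group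
    _ = A w.1 * θ ^ w.2.1.val * (A (if w.2.2 = 0 then w'.1 else (w'.1.1 + w'.1.2, w'.1.2)) *
        σ ^ w.2.2.val) * θ ^ w'.2.1.val * σ ^ w'.2.2.val := by rw [← b2, ← b4]; group
    _ = _ := by rw [← b3]; group

namespace Su5

variable {S : Subgroup G} {z : G} {Q J L0 : Subgroup G} {ψ : G → P5} {t : G} {M0 : Subgroup G}
  {π : G → P6} {a b u z' θ : G} (h : Su5 S z Q J L0 ψ t M0 π a b u z' θ) [Finite G]
include h

theorem cubeH {H0 : Subgroup G} (hf : ∀ x, ff z z' θ x ∈ H0) {v g : G} {w : W} (hv : v ∈ H0)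
    (h1 : Ac J (z * z') (ff z z' θ) v w) (h2 : Ac J (z * z') (ff z z' θ) g w) : g ^ 3 ∈ H0 := by
  obtain ⟨_, ⟨k, rfl⟩, x, e⟩ := h.decJ (h.kerA h2 h1)
  rw [inv_mul_eq_iff_eq_mul, ← mul_assoc, (h1.c.zpow_right k).eq, mul_assoc] at e
  rw [e, Commute.mul_pow ((h1.c.zpow_right k).symm.mul_right (h.comJ (zpow_mem h.yJ k) (h.fJ x))),
    h.eJ _ (zpow_mem h.yJ k), one_mul]
  exact pow_mem (mul_mem hv (hf x)) 3

theorem JY : J ≤ centralizer {z * z'} := fun _ hj =>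
  mem_centralizer_singleton_iff.2 (h.comJ hj h.yJ)

theorem tu2 : t * u * (t * u) = 1 := by
  rw [mul_assoc, ← mul_assoc u, h.ut, mul_assoc, h.u2, mul_one, h.t2]

theorem fX (x : V27) : ff z z' θ x ∈ RR (centralizer {z * z'}) := by
  have ht := mem_centralizer_singleton_iff.2 h.ty
  have hu := mem_centralizer_singleton_iff.2 h.uy
  have k : ∀ {g w}, Ac J (z * z') (ff z z' θ) g w → g * g = 1 → ∀ x, act w x = -x →
      ff z z' θ x ∈ RR (centralizer {z * z'}) := fun h1 h2 x e =>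
    com_RR (mem_centralizer_singleton_iff.2 h1.c) (h.JY (h.fJ x)) h2 (h.eJ _ (h.fJ x))
      (by rw [h1.a, e, h.fA.neg])
  exact mul_mem (pow_mem (f1 (θ := θ) ▸ k h.acT h.t2 (1, 0, 0) (by decide +kernel)) _)
    (mul_mem (pow_mem (f2 (θ := θ) ▸ k h.acT h.t2 (0, 1, 0) (by decide +kernel)) _)
      (pow_mem (f3 (θ := θ) ▸ k h.acU h.u2 (0, 0, 1) (by decide +kernel)) _))

theorem HYA (hA : ∀ c ∈ NL z, ψ c = 1 → c * z * c⁻¹ = z) :
    centralizer {z * z'} ≤ normalizer (J : Set G) := by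
  have ht := mem_centralizer_singleton_iff.2 h.ty
  have hu := mem_centralizer_singleton_iff.2 h.uy
  have k : ∀ {g w}, Ac J (z * z') (ff z z' θ) g w → ∀ {x v}, ff z z' θ x = v → ∀ {x'},
      act w x = x' → g * v * g⁻¹ = ff z z' θ x' := fun h1 x v e' x' e => e ▸ e' ▸ h1.a x
  have a2 := h.acT.mul h.acU
  have hm := Agent.S3701.model h.fA h.finj (s := t) (t := t * u) (by rw [pow_two, h.t2])
    (by rw [pow_two, h.tu2]) ((Commute.refl t).mul_right h.ut.symm)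
    (k h.acT f1 (by decide +kernel)) (k h.acT f2 (by decide +kernel))
    (k h.acT f3 (by decide +kernel)) (k a2 f1 (by decide +kernel))
    (k a2 f2 (by decide +kernel)) (k a2 f3 (by decide +kernel)) rfl
  generalize Subgroup.closure (G := G) _ = H0 at hm
  have m : ∀ x (i j : ZMod 2), ff z z' θ x * (t ^ i.val * (t * u) ^ j.val) ∈ H0 :=
    fun x i j => (hm.mem _).2 ⟨(x, i, j), rfl⟩
  have hf : ∀ x, ff z z' θ x ∈ H0 := fun x => by simpa using m x 0 0
  have mt : t ∈ H0 := by simpa [h.fA.zero, ZMod.val_one] using m 0 1 0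
  have mu : u ∈ H0 := by
    simpa [h.fA.zero, ZMod.val_one, ← mul_assoc, h.t2] using m 0 1 1
  have hX : H0 ≤ RR (centralizer {z * z'}) := fun g hg => by
    obtain ⟨p, rfl⟩ := (hm.mem g).1 hg
    exact mul_mem (h.fX _) (mul_mem (pow_mem (inv_RR ht h.t2) _)
      (pow_mem (inv_RR (mul_mem ht hu) h.tu2) _))
  have hN : H0 ≤ normalizer (J : Set G) := fun g hg => by
    obtain ⟨p, rfl⟩ := (hm.mem g).1 hg
    exact mul_mem (le_normalizer (h.fJ _)) (mul_mem (pow_mem h.acT.n _) (pow_mem a2.n _))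
  have hW := h.HW (H0 := H0) h.JY fun g hg hn => by
    obtain ⟨w, hw, ac⟩ := h.acΓ (h.genA hA hn (mem_centralizer_singleton_iff.1 hg))
    rcases wp_A w hw with e | e
    · exact ⟨2, by rw [pow_two, pow_mul, h.eJ _ (h.ker0 (e ▸ ac.pow 3))]; exact one_mem _⟩
    · exact ⟨1, h.cubeH hf (mul_mem (pow_mem mt _) (pow_mem mu _))
        (e ▸ (h.acT.pow _).mul (h.acU.pow _)) ac⟩
  have hle : RR (centralizer {z * z'}) ≤ _ := H69.res_le _
  refine h.HW2 h.JY fun g hg => hN ?_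
  generalize RR (centralizer {z * z'}) = X at *
  have hT : h.fA.hom.range ≤ H0 := by rintro _ ⟨x, rfl⟩; exact hf _
  have mT : ∀ x : X, x ∈ h.fA.hom.range.subgroupOf X ↔ ∃ x', ff z z' θ x' = x := fun _ => Iff.rfl
  have cX : ∀ g : X, Commute (g : G) (z * z') := fun g =>
    mem_centralizer_singleton_iff.1 (hle g.2)
  have := Agent.S3701.main (mdl_sub hm hX) (T := h.fA.hom.range.subgroupOf X)
    (fun x hx => hT hx) (by
      rw [Nat.card_congr (subgroupOfEquivOfLe (hT.trans hX)).toEquiv,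
        ← Nat.card_congr (MonoidHom.ofInjective (f := h.fA.hom) h.finj).toEquiv]; simp)
    (le_antisymm (fun (g : X) hg => @hW g.1 ⟨g.2, mem_normalizer_fintype fun j hj => by
      obtain ⟨v, hv, x, rfl⟩ := h.decJ hj
      obtain ⟨x', e⟩ := (mT _).1 ((mem_normalizer_iff.1 hg ⟨_, hX (hf x)⟩).1 ((mT _).2 ⟨x, rfl⟩))
      have c : Commute (g : G) v := by obtain ⟨n, rfl⟩ := hv; exact (cX g).zpow_right n
      rw [← mul_assoc, c.eq, mul_assoc, mul_assoc, ← mul_assoc (g : G)]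
      exact mul_mem (zpowers_le.2 h.yJ hv) (e ▸ h.fJ x' :)⟩) fun g hg => mem_normalizer_fintype
        fun x hx => by
      obtain ⟨x', e⟩ := (mT _).1 hx
      obtain ⟨w, -, ac⟩ := h.acΓ (h.genA hA (g := (g : G)) (hN hg) (cX g))
      exact (mT _).2 ⟨act w x', (ac.a _).symm.trans (by rw [e]; rfl)⟩)
    fun x hx x1 c hc => by
      obtain ⟨x', e⟩ := (mT _).1 hx
      exact hW ⟨c.2, h.Pall (h.P2A hA) (x := x') (fun e1 => x1 (Subtype.ext (by
        rw [← e, e1, h.fA.zero]; rfl))) c (cX c)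
        (e ▸ congrArg Subtype.val (mem_centralizer_singleton_iff.1 hc))⟩
  exact this.ge (mem_top ⟨g, hg⟩)

theorem HYB {θ' σ : G} (k : Sg J (z * z') (ff z z' θ) t u θ' σ) :
    centralizer {z * z'} ≤ normalizer (J : Set G) := by
  have ac : ∀ w, Ac J (z * z') (ff z z' θ) (sp t u θ' σ w) w := fun w => by
    have := (((h.acT.pow w.1.1.val).mul (h.acU.pow w.1.2.val)).mul (k.aθ.pow w.2.1.val)).mul
      (k.aσ.pow w.2.2.val)
    rwa [wp_B] at this
  have hs := sp_mul k h.t2 h.u2 h.ut.symm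
  have s0 : sp t u θ' σ 0 = 1 := by simp [sp]
  have hm := mdl_sd (H := closure {g | ∃ x w, ff z z' θ x * sp t u θ' σ w = g}) h.fA h.finj hs
    (fun w => (ac w).a) (fun w w' e => act_inj w w' (e _) (e _)) fun g =>
    ⟨fun hg => mem_of_closure (P := fun g => ∃ x w, ff z z' θ x * sp t u θ' σ w = g)
      ⟨0, 0, by rw [h.fA.zero, s0, one_mul]⟩ (fun _ h => h) (by
        rintro _ _ ⟨x, w, rfl⟩ ⟨x', w', rfl⟩
        exact ⟨x + act w x', mw w w', by rw [h.fA, hs, ← (ac w).a]; group⟩) hg,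
      fun h => subset_closure h⟩
  generalize Subgroup.closure (G := G) _ = H0 at hm
  have hf : ∀ x, ff z z' θ x ∈ H0 := fun x => (hm.mem _).2 ⟨(x, 0), by simp [s0]⟩
  have hσ := inv_RR (mem_centralizer_singleton_iff.2 k.aσ.c) k.σ2
  have hX : H0 ≤ RR (centralizer {z * z'}) := fun g hg => by
    obtain ⟨p, rfl⟩ := (hm.mem g).1 hg
    exact mul_mem (h.fX _) (mul_mem (mul_mem (mul_mem
      (pow_mem (inv_RR (mem_centralizer_singleton_iff.2 h.ty) h.t2) _)
      (pow_mem (inv_RR (mem_centralizer_singleton_iff.2 h.uy) h.u2) _))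
      (pow_mem (com_RR (mem_centralizer_singleton_iff.2 k.aσ.c)
        (mem_centralizer_singleton_iff.2 k.aθ.c) k.σ2 k.θ3 k.σθ) _)) (pow_mem hσ _))
  have hN : H0 ≤ normalizer (J : Set G) := fun g hg => by
    obtain ⟨p, rfl⟩ := (hm.mem g).1 hg
    exact mul_mem (le_normalizer (h.fJ _)) (ac _).n
  have hW := h.HW (H0 := H0) h.JY fun g hg hn => by
    obtain ⟨w, a1⟩ := k.gen g hn (mem_centralizer_singleton_iff.1 hg)
    exact ⟨1, h.cubeH hf ((hm.mem _).2 ⟨(0, w), by simp [h.fA.zero]⟩) (ac w) a1⟩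
  have hle : RR (centralizer {z * z'}) ≤ _ := H69.res_le _
  refine h.HW2 h.JY fun g hg => hN ?_
  have := N9.Hy.top ⟨mdl_sub hm hX, fun x hx c hc => hW ⟨c.2, h.Pall (h.P2B k) hx c
    (mem_centralizer_singleton_iff.1 (hle c.2)) (by
      simpa [s0, commute_iff_eq] using congrArg Subtype.val hc)⟩⟩
  exact this.ge (mem_top ⟨g, hg⟩)

end Su5

theorem Su4.main' {S : Subgroup G} {z : G} {Q J L0 : Subgroup G} {ψ : G → P5} {t : G}
    {M0 : Subgroup G} {π : G → P6} {a b u z' : G} (h : Su4 S z Q J L0 ψ t M0 π a b u z') [Finite G] :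
    ∃ N : Subgroup G, N.Normal ∧ (N = ⊤ ∨ N.index = 2) ∧ centralizer (N : Set G) = ⊥ ∧
      Nonempty (N ≃* Spor.McL) := h.main fun c hc => by
  obtain ⟨θ, h5⟩ := h.exists5
  by_cases hA : ∀ c ∈ NL z, ψ c = 1 → c * z * c⁻¹ = z
  · exact h5.HYA hA (mem_centralizer_singleton_iff.2 hc)
  · push Not at hA
    obtain ⟨c', hc', e1, e2⟩ := hA
    obtain ⟨s, hs⟩ := h.existsB ((h.memL.1 hc').resolve_left e2) e1
    obtain ⟨θ', σ, k⟩ := h5.exσ hs
    exact h5.HYB k (mem_centralizer_singleton_iff.2 hc)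

end H87.Mc
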