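import Cfsg.Agent.Lib.Mc3.Kc
import Cfsg.Agent.Lib.Core.PCore
import Cfsg.Agent.Lib.Inv73.Transfer
import Cfsg.Agent.S3334

/-! The identification of the McLaughlin group from the centraliser of `t`. -/

set_option autoImplicit false

namespace H87.Mc

open Subgroup Equiv Equiv.Perm H58 H58.Cd H58.St H58.SE Cfsg
open scoped Pointwise

variable {G : Type*} [Group G]

theorem cover {H : Type*} [Group H] [Finite H] (f : H →* alternatingGroup (Fin 8))
    (hf : Function.Surjective f) {τ' α : H} (t2 : τ' * τ' = 1) (t1 : τ' ≠ 1) (hα : α * α = τ')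
    (hc : ∀ g, g * τ' = τ' * g) (hk : ∀ g, f g = 1 ↔ g = 1 ∨ g = τ') :
    IsNonsplitDoubleCover H (alternatingGroup (Fin 8)) := by
  have e : center H = f.ker := by
    ext g
    refine ⟨fun hg => ?_, fun hg => ?_⟩
    · have : f g ∈ center (alternatingGroup (Fin 8)) := mem_center_iff.2 fun x => by
        obtain ⟨y, rfl⟩ := hf x
        rw [← map_mul, mem_center_iff.1 hg y, map_mul]
      rwa [alternatingGroup.center_eq_bot (by simp), mem_bot] at this
    · rcases (hk g).1 hg with rfl | rfl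
      exacts [one_mem _, mem_center_iff.2 hc]
  have e2 : Nat.card (center H) = 2 := by
    rw [e, show f.ker = zpowers τ' from Subgroup.ext fun g => (hk g).trans (mem_z2 t2).symm,
      Nat.card_zpowers, orderOf_eq_prime (hp := ⟨Nat.prime_two⟩) (pow_two τ' ▸ t2) t1]
  refine ⟨e2, ⟨(QuotientGroup.quotientMulEquivOfEq e).trans
    (QuotientGroup.quotientKerEquivOfSurjective f hf)⟩, fun L hL => t1 ?_⟩
  have h1 : τ' ∈ L := hα ▸ mul_self_mem_of_index_two (hL.index_eq_card.trans e2) α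
  exact mem_bot.1 (hL.disjoint.le_bot ⟨mem_center_iff.2 hc, h1⟩)

theorem odd_comm {p : S8.P8} (h3 : p ^ 3 = 1) : ∃ q : S8.P8, sign q = -1 ∧ q * p = p * q := by
  have := card_compl_support_modEq (p := 3) (hp := ⟨by norm_num⟩) (n := 1) (σ := p) (by simpa using h3)
  rw [Fintype.card_fin, Nat.ModEq] at this
  obtain ⟨i, hi, j, hj, hij⟩ := Finset.one_lt_card.1 (show 1 < p.supportᶜ.card by omega)
  simp only [Finset.mem_compl, mem_support, not_not] at hi hj
  exact ⟨swap i j, sign_swap hij, by rw [mul_swap_eq_swap_mul, hi, hj]⟩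

theorem s8_two {p q r : S8.P8} (p2 : p * p = 1) (q2 : q * q = 1) (r2 : r * r = 1) (p1 : p ≠ 1)
    (q1 : q ≠ 1) (r1 : r ≠ 1) (e1 : sign p = sign r) (e2 : sign q = sign r) (hn : ¬ IsConj p q) :
    IsConj r p ∨ IsConj r q := by
  have key : ∀ {p : S8.P8}, p * p = 1 → p ≠ 1 → sign p = -1 →
      p.support.card = 2 ∨ p.support.card = 6 := fun {p} p2 p1 e => by
    rcases S8.invol_supp p2 p1 with h | h | h | h
    · exact Or.inl h
    · obtain ⟨k, -, e1⟩ := S8.conj_a p2 h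
      rw [← e1] at e
      simp only [map_mul, sign_inv, mul_right_comm, Int.units_mul_self, one_mul] at e
      exact absurd e (by decide +kernel)
    · exact Or.inr h
    · obtain ⟨k, -, e1⟩ := S8.conj_b p2 h
      rw [← e1] at e
      simp only [map_mul, sign_inv, mul_right_comm, Int.units_mul_self, one_mul] at e
      exact absurd e (by decide +kernel)
  have hne : p.support.card ≠ q.support.card := fun e => hn (S8.isConj_of_invol p2 q2 e)
  have : r.support.card = p.support.card ∨ r.support.card = q.support.card := by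
    rcases Int.units_eq_one_or (sign r) with e | e <;> rw [e] at e1 e2
    · have := S8.even_invol p2 p1 e1
      have := S8.even_invol q2 q1 e2
      have := S8.even_invol r2 r1 e
      omega
    · have := key p2 p1 e1
      have := key q2 q1 e2
      have := key r2 r1 e
      omega
  exact this.imp (S8.isConj_of_invol r2 p2) (S8.isConj_of_invol r2 q2)

theorem hom_sign {α : Type*} [Fintype α] [DecidableEq α] (f : Perm α →* ℤˣ) :
    f = 1 ∨ f = sign := by
  by_cases h : ∃ p, f p = -1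
  · refine Or.inr (eq_sign_of_surjective_hom fun x => ?_)
    rcases Int.units_eq_one_or x with rfl | rfl
    exacts [⟨1, map_one f⟩, h]
  · exact Or.inl (MonoidHom.ext fun p => (Int.units_eq_one_or _).resolve_right fun e => h ⟨p, e⟩)

theorem hom_triv2 [Finite G] {K D : Subgroup G} (hDK : D ≤ K) (hi : ¬ 2 ∣ D.relIndex K)
    {μ : G → ℤˣ} (h : IsH K μ) (h1 : ∀ d ∈ D, μ d = 1) {k : G} (hk : k ∈ K) : μ k = 1 := by
  have hle : D ≤ h.pre ⊥ := fun d hd => h.mem_pre.2 ⟨hDK hd, h1 d hd⟩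
  have e1 := h.card_eq
  have e2 := H1.card_mul_relIndex_of_le (show h.pre ⊥ ≤ K from fun g hg => (h.mem_pre.1 hg).1)
  have e3 : (h.pre ⊥).relIndex K = Nat.card h.im := by
    rw [e1, mul_comm] at e2
    exact Nat.eq_of_mul_eq_mul_right Nat.card_pos e2
  have e4 : Nat.card h.im ∣ 2 := by simpa using card_subgroup_dvd_card h.im
  rcases (Nat.dvd_prime (by norm_num)).1 e4 with e5 | e5
  · exact mem_bot.1 (card_eq_one.1 e5 ▸ h.mem_im.2 ⟨k, hk, rfl⟩)
  · exact absurd (e5 ▸ e3 ▸ relIndex_dvd_of_le_left K hle) hi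

theorem odd_index [Finite G] {t : G} (t2 : t * t = 1) (t1 : t ≠ 1)
    (hv : ∀ v, Commute t v → v * v = 1 → v ≠ 1 → v ≠ t → ∃ k, Commute t k ∧ k * v * k⁻¹ = v * t) :
    Odd (centralizer {t} : Subgroup G).index := by
  classical
  have : Fact (Nat.Prime 2) := ⟨Nat.prime_two⟩
  obtain ⟨P, h1, h2⟩ := H4.exists_sylow_ge_not_dvd_relIndex (K := centralizer {t})
    (pgz (p := 2) (k := 1) (x := t) (by rw [pow_one, pow_two, t2]))
    (zpowers_le.2 (mc.2 (Commute.refl t)))
  by_cases hP : (P : Subgroup G) ≤ centralizer {t}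
  · exact Nat.coprime_two_right.1 (H4.coprime_index_of_sylow_le P hP)
  exfalso
  have h3 := H4.lt_inf_normalizer_of_lt P.2 (show (P : Subgroup G) ⊓ centralizer {t} < P from
    lt_of_le_of_ne inf_le_left fun e => hP (e ▸ inf_le_right))
  obtain ⟨x, hx, hxT⟩ := SetLike.exists_of_lt h3
  have hn := fun d => (mem_normalizer_iff.1 hx.2 d).1
  have hn' := fun d => (mem_normalizer_iff.1 (inv_mem hx.2) d).1
  have hv1 := hn t ⟨h1 (mem_zpowers t), mc.2 (Commute.refl t)⟩
  have c := mc.1 hv1.2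
  obtain ⟨k, ck, e⟩ := hv _ c (conj_sq t2) (conj_ne_one t1) fun e =>
    hxT ⟨hx.1, mem_centralizer_singleton_iff.2 (mul_inv_eq_iff_eq_mul.1 e)⟩
  generalize hvv : x * t * x⁻¹ = v at e c
  have hne : v * t ≠ v := by simpa using t1
  have key : ∀ g, Commute t g → g * (v * t) * g⁻¹ = g * v * g⁻¹ * t := fun g cg => by
    rw [← mul_assoc, mul_assoc _ t, cg.inv_right.eq, mul_assoc, mul_assoc, mul_assoc]
  let H : Subgroup G :=
    { carrier := {g | Commute t g ∧ (g * v * g⁻¹ = v ∨ g * v * g⁻¹ = v * t)}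
      one_mem' := ⟨Commute.one_right t, Or.inl (by simp)⟩
      mul_mem' := by
        rintro g g' ⟨c1, e1⟩ ⟨c2, e2⟩
        refine ⟨c1.mul_right c2, ?_⟩
        have e0 : g * g' * v * (g * g')⁻¹ = g * (g' * v * g'⁻¹) * g⁻¹ := by group
        rcases e1 with e1 | e1 <;> rcases e2 with e2 | e2 <;>
          simp only [e0, e2, key g c1, e1, mul_assoc v, t2, mul_one, true_or, or_true]
      inv_mem' := by
        rintro g ⟨c1, e1⟩
        refine ⟨c1.inv_right, e1.imp (fun e1 => by nth_rewrite 1 [← e1]; group) fun e1 => ?_⟩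
        have : v = g * (v * t) * g⁻¹ := by rw [key g c1, e1, mul_assoc, t2, mul_one]
        nth_rewrite 1 [this]; group }
  have hμ : IsH H fun g => if g * v * g⁻¹ = v then (1 : ℤˣ) else -1 := by
    rintro g ⟨c1, e1⟩ g' ⟨c2, e2⟩
    have e0 : g * g' * v * (g * g')⁻¹ = g * (g' * v * g'⁻¹) * g⁻¹ := by group
    rcases e1 with e1 | e1 <;> rcases e2 with e2 | e2 <;>
      simp only [e0, e2, key g c1, e1, mul_assoc v, t2, hne, mul_one, if_true, if_false] <;> simp
  have hT : ∀ d ∈ (P : Subgroup G) ⊓ centralizer {t}, d * v * d⁻¹ = v := fun d hd => by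
    have := mc.1 (hn' d hd).2
    rw [← hvv]
    calc _ = x * (x⁻¹ * d * x⁻¹⁻¹ * t) * x⁻¹ * d⁻¹ := by group
      _ = _ := by rw [← this.eq]; group
  have hle : (P : Subgroup G) ⊓ centralizer {t} ≤ H := fun d hd => ⟨mc.1 hd.2, Or.inl (hT d hd)⟩
  have := hom_triv2 hle (fun e1 => h2 (by
    rw [← inf_relIndex_right, ← relIndex_mul_relIndex _ H _ hle fun g hg => mc.2 hg.1]
    exact e1.mul_right _)) hμ (fun d hd => if_pos (hT d hd)) (k := k) ⟨ck, Or.inr e⟩
  simp [e, t1] at this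

namespace Su3

variable {S : Subgroup G} {z : G} {Q J L0 : Subgroup G} {ψ : G → P5} {t : G} {M0 : Subgroup G}
  {π : G → P6} {a b u z' : G} (h : Su3 S z Q J L0 ψ t M0 π a b u z') [Finite G]
include h

theorem excl {R : Subgroup G} [hR : R.Normal] (ho : Odd (Nat.card R)) : ¬ S ≤ centralizer {t} ⊔ R := by
  have : Fact (Nat.Prime 3) := ⟨by norm_num⟩
  intro hS
  have hz : z ∉ R := fun hz => by
    obtain ⟨l, hl, e⟩ := h.ψsur v1 (by decide +kernel)
    have h1 : z' ∈ R := h.uz ▸ hR.conj_mem z hz u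
    have h2 := mul_mem h1 (inv_mem (hR.conj_mem _ h1 l))
    have h3 := mul_mem (mul_mem (h.LN hl) h.z'N) (inv_mem (h.LN hl))
    have h4 := h.hψ.pow (mul_mem h.z'N (inv_mem h3)) (Nat.card R)
    obtain ⟨j, hj⟩ := ho
    rw [orderOf_dvd_iff_pow_eq_one.1 (H1.orderOf_dvd_card_of_mem h2), h.hψ.div h.z'N h3,
      h.hψ.conj (h.LN hl) h.z'N, e, h.ψz, h.hψ.one, hj, pow_succ, pow_mul,
      show (κ * (v1 * κ * v1⁻¹)⁻¹) ^ 2 = 1 by decide +kernel, one_pow, one_mul] at h4
    exact absurd h4 (by decide +kernel)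
  have hRS : S ⊓ R = ⊥ := by
    have k1 : ∀ x ∈ R, x ∈ zpowers z → x = 1 := fun x hx hZ => by
      rcases h.memZ.1 hZ with e | e | e
      · exact e
      · exact absurd (e ▸ hx) hz
      · exact absurd (inv_mem_iff.1 (e ▸ hx)) hz
    have k2 : ∀ x ∈ R, (∀ q ∈ Q, fx z x q) → x = 1 := fun x hx hf => k1 x hx (h.CQ x fun q hq => by
      have := k1 _ (by convert mul_mem hx (hR.conj_mem _ (inv_mem hx) q) using 1; group) (hf q hq)
      rwa [mul_inv_eq_one, mul_inv_eq_iff_eq_mul] at this)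
    refine eq_bot_iff.2 fun x hx => mem_bot.2 (k2 x hx.2 fun q hq => ?_)
    have h1 := mul_mem (h.nQ x (h.SN hx.1) q hq) (inv_mem hq)
    have hxR : x ∈ R := hx.2
    rw [fx, k2 _ (by convert mul_mem hxR (hR.conj_mem _ (inv_mem hxR) q) using 1; group)
      fun r hr => h.comQ _ h1 _ hr]
    exact one_mem _
  have h1 := H4.not_dvd_relIndex_sylow_of_normal h.syl R
  have h2 := H1.card_inf_mul_relIndex S R
  rw [hRS, card_bot, one_mul] at h2
  have h3 := (card_dvd_of_le hS).trans (H1.card_sup_dvd_of_normal _ R)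
  rw [h.cS, ← h2] at h3
  refine h.n27 ((show 27 ∣ 3 ^ 6 by norm_num).trans (Nat.Coprime.dvd_of_dvd_mul_right ?_ h3))
  exact Nat.Coprime.pow_left 6 ((Nat.Prime.coprime_iff_not_dvd (by norm_num)).2 h1)

theorem cenN {N : Subgroup G} [hN : N.Normal] (hS : S ≤ N) : centralizer (N : Set G) = ⊥ := by
  refine eq_bot_iff.2 fun c hc => mem_bot.2 ?_
  have key : ∀ c ∈ centralizer (N : Set G), c ∈ zpowers z := fun c hc =>
    h.CQ c fun q hq => (hc q (hS (h.QS hq))).symm
  have h1 := key _ ((inferInstance : (centralizer (N : Set G)).Normal).conj_mem c hc u)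
  rcases h.memZ.1 (key c hc) with e | e | e
  · exact e
  · exact absurd (h.ZQ (h.uz ▸ e ▸ h1)) h.z'Q
  · refine absurd (h.ZQ ?_) h.z'Q
    rw [← h.uz]; convert inv_mem (e ▸ h1) using 1; group

theorem fin {N : Subgroup G} [hN : N.Normal] (hS : S ≤ N) (ha : a ∈ N)
    {f : G → alternatingGroup (Fin 8)} (hf : IsH (centralizer {t} ⊓ N) f)
    (hs : ∀ x, ∃ g ∈ centralizer {t} ⊓ N, f g = x)
    (hk : ∀ g ∈ centralizer {t} ⊓ N, f g = 1 ↔ g = 1 ∨ g = t) : Nonempty (N ≃* Spor.McL) := by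
  have ht : t ∈ N := h.a2 ▸ mul_mem ha ha
  have hm : ∀ g : N, g ∈ centralizer {(⟨t, ht⟩ : N)} ↔ Commute t g := fun g => by
    rw [mem_centralizer_singleton_iff, Subtype.ext_iff]; exact eq_comm
  let F : centralizer {(⟨t, ht⟩ : N)} →* alternatingGroup (Fin 8) :=
    MonoidHom.mk' (fun g => f g.1.1) fun x y =>
      hf ⟨mc.2 ((hm _).1 x.2), x.1.2⟩ ⟨mc.2 ((hm _).1 y.2), y.1.2⟩
  have t1 : (⟨t, ht⟩ : N) ≠ 1 := fun e => h.t1 (congrArg Subtype.val e)
  have t2 : (⟨t, ht⟩ : N) * ⟨t, ht⟩ = 1 := Subtype.ext h.t2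
  refine (Agent.S3334.result (⟨t, ht⟩ : N)
    (orderOf_eq_prime (hp := ⟨Nat.prime_two⟩) (pow_two (⟨t, ht⟩ : N) ▸ t2) t1)
    (cover F (fun x => ?_) (τ' := ⟨⟨t, ht⟩, (hm _).2 (Commute.refl t)⟩)
      (α := ⟨⟨a, ha⟩, (hm _).2 h.at'.symm⟩) (Subtype.ext t2) (fun e => t1 (congrArg Subtype.val e))
      (Subtype.ext (Subtype.ext h.a2)) (fun g => Subtype.ext (Subtype.ext ((hm _).1 g.2).symm))
      fun g => ?_)).resolve_left fun e => ?_
  · obtain ⟨g, hg, rfl⟩ := hs x
    exact ⟨⟨⟨g, hg.2⟩, (hm _).2 (mc.1 hg.1)⟩, rfl⟩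
  · refine (hk _ ⟨mc.2 ((hm _).1 g.2), g.1.2⟩).trans ?_
    simp only [Subtype.ext_iff]; rfl
  · refine h.excl (R := (oddCore N).map N.subtype)
      (by rw [card_map_of_injective N.subtype_injective]; exact H1.odd_card_oddCore) fun s hs => ?_
    have : (⊤ : Subgroup N).map N.subtype ≤ centralizer {t} ⊔ (oddCore N).map N.subtype := by
      rw [← e, Subgroup.map_sup]
      refine sup_le_sup_right ?_ _
      rintro _ ⟨g, hg, rfl⟩
      exact mc.2 ((hm g).1 hg)
    exact this ⟨⟨s, hS hs⟩, trivial, rfl⟩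

theorem uut : ∃ k, Commute t k ∧ k * u * k⁻¹ = u * t := by
  have hu := h.nM b (h.MN h.bM) u h.uM
  have hn := h.eqπ hu (mul_mem h.uM h.tM) (by
    rw [h.hπ.conj h.bM h.uM, h.hπ h.uM h.tM, h.πb, h.πu, h.πt]; decide +kernel)
  have cb : Commute t b := h.bt.symm
  have cu : Commute t u := h.ut.symm
  refine ⟨b * u * b⁻¹ * (u * t)⁻¹ * b, (((cb.mul_right cu).mul_right cb.inv_right).mul_right
    (cu.mul_right (Commute.refl t)).inv_right).mul_right cb, ?_⟩
  convert inv_adj (v := b * u * b⁻¹) (t := u * t) (by group) (conj_sq h.u2) (by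
    rw [mul_assoc, ← mul_assoc t, cu.eq, mul_assoc, h.t2, mul_one, h.u2]) (h.eJ _ hn) using 1
  group

end Su3

end H87.Mc
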