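import Cfsg.Agent.Lib.Mc3.Nf

/-! The centraliser of the involution `t` modulo `t`. -/

set_option autoImplicit false

namespace H87.Mc

open Subgroup Equiv Equiv.Perm H58 H58.Cd H58.St H58.SE
open scoped Pointwise IsMulCommutative

abbrev C3 := Multiplicative (ZMod 3)

variable {G : Type*} [Group G]

theorem exists_qm (H N : Subgroup G) [(N.subgroupOf H).Normal] :
    ∃ χ : G → H ⧸ N.subgroupOf H, IsH H χ ∧ (∀ x, ∃ g ∈ H, χ g = x) ∧
      ∀ g ∈ H, χ g = 1 ↔ g ∈ N := by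
  obtain ⟨χ, h1, h2⟩ := isH_of_hom H (QuotientGroup.mk' (N.subgroupOf H))
  refine ⟨χ, h1, fun x => ?_, fun g hg => ?_⟩
  · obtain ⟨g, rfl⟩ := QuotientGroup.mk_surjective x
    exact ⟨g, g.2, h2 g⟩
  · rw [h2 ⟨g, hg⟩, QuotientGroup.mk'_apply, QuotientGroup.eq_one_iff, mem_subgroupOf]

theorem exists_ext [Finite G] {K D : Subgroup G} (hi : ¬ 3 ∣ D.relIndex K)
    {ϕ : G → C3} (hϕ : IsH D ϕ) (hf : ∀ d ∈ D, ∀ k ∈ K, k * d * k⁻¹ ∈ D → ϕ (k * d * k⁻¹) = ϕ d) :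
    ∃ l : G → C3, IsH K l ∧ ∀ d ∈ D, d ∈ K → l d = ϕ d := by
  let H := D.subgroupOf K
  let f : H →* C3 := MonoidHom.mk' (fun x => ϕ x) fun x y => hϕ x.2 y.2
  have hle : H.focalSubgroupOf ≤ f.ker := by
    rw [focalSubgroupOf_eq_closure, closure_le]
    rintro ⟨g, hg⟩ ⟨x, hx, v, e⟩
    change ϕ g = 1
    have e1 : (g : G) = x * (v * x * (v : G)⁻¹)⁻¹ := by
      have e0 : g = x * v * x⁻¹ * v⁻¹ := e
      rw [e0]; simp [mul_assoc]
    have h1 : (v : G) * x * (v : G)⁻¹ ∈ D := by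
      have := mul_mem (inv_mem (mem_subgroupOf.1 hg)) (mem_subgroupOf.1 hx)
      rw [e1] at this
      simpa using this
    have hx' : (x : G) ∈ D := hx
    rw [e1, hϕ.div hx' h1, hf _ hx' _ v.2 h1, mul_inv_cancel]
  let F := (QuotientGroup.lift _ f hle).comp H.transferFocal
  obtain ⟨l, h1, h2⟩ := isH_of_hom K ((powMonoidHom H.index).comp F)
  refine ⟨l, h1, fun d hd hK => ?_⟩
  have e := H.transferFocal_eq_pow ⟨⟨d, hK⟩, hd⟩
  rw [h2 ⟨d, hK⟩]
  change (QuotientGroup.lift _ f hle (H.transferFocal ⟨d, hK⟩)) ^ H.index = _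
  rw [e, map_pow, QuotientGroup.lift_mk]
  change (ϕ d ^ D.relIndex K) ^ D.relIndex K = _
  have key : ∀ x : C3, ∀ r < 3, r ≠ 0 → (x ^ r) ^ r = x := by decide
  have x3 : ∀ x : C3, x ^ 3 = 1 := by decide
  rw [pow_eq_pow_mod _ (x3 _), pow_eq_pow_mod _ (x3 (ϕ d))]
  exact key _ _ (Nat.mod_lt _ (by norm_num)) fun e => hi (Nat.dvd_of_mod_eq_zero e)

theorem hom_triv [Finite G] {K D : Subgroup G} (hDK : D ≤ K) (hi : ¬ 3 ∣ D.relIndex K)
    {μ : G → C3} (h : IsH K μ) (h1 : ∀ d ∈ D, μ d = 1) {k : G} (hk : k ∈ K) : μ k = 1 := by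
  have hle : D ≤ h.pre ⊥ := fun d hd => h.mem_pre.2 ⟨hDK hd, h1 d hd⟩
  have e1 := h.card_eq
  have e2 := H1.card_mul_relIndex_of_le (show h.pre ⊥ ≤ K from fun g hg => (h.mem_pre.1 hg).1)
  have e3 : (h.pre ⊥).relIndex K = Nat.card h.im := by
    rw [e1, mul_comm] at e2
    exact Nat.eq_of_mul_eq_mul_right Nat.card_pos e2
  have e4 : Nat.card h.im ∣ 3 := by simpa using card_subgroup_dvd_card h.im
  rcases (Nat.dvd_prime (by norm_num)).1 e4 with e5 | e5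
  · exact mem_bot.1 (card_eq_one.1 e5 ▸ h.mem_im.2 ⟨k, hk, rfl⟩)
  · exact absurd (e5 ▸ e3 ▸ relIndex_dvd_of_le_left K hle) hi

theorem exists_PH {P X : Type*} [Group P] [Group X] {H : Subgroup G} {Φ : G → P} {χ : G → X}
    (hΦ : IsH H Φ) (hχ : IsH H χ) (hk : ∀ g ∈ H, Φ g = 1 ↔ χ g = 1) :
    ∃ m : PH P X, (∀ p, p ∈ m.S ↔ ∃ g ∈ H, Φ g = p) ∧ ∀ g ∈ H, m.f (Φ g) = χ g := by
  classical
  have key : ∀ g ∈ H, ∀ k ∈ H, Φ g = Φ k ↔ χ g = χ k := fun g hg k hk' => by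
    rw [← mul_inv_eq_one, ← hΦ.div hg hk', hk _ (mul_mem hg (inv_mem hk')), hχ.div hg hk',
      mul_inv_eq_one]
  let f : P → X := fun p => if h : ∃ g ∈ H, Φ g = p then χ h.choose else 1
  have hf : ∀ g ∈ H, f (Φ g) = χ g := fun g hg => by
    have h : ∃ k ∈ H, Φ k = Φ g := ⟨g, hg, rfl⟩
    exact (dif_pos h).trans ((key _ h.choose_spec.1 g hg).1 h.choose_spec.2)
  refine ⟨⟨hΦ.im, f, fun hp hq => ?_, fun hp hq e => ?_⟩, fun p => hΦ.mem_im, hf⟩ <;>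
    obtain ⟨g, hg, rfl⟩ := hΦ.mem_im.1 hp <;> obtain ⟨k, hk', rfl⟩ := hΦ.mem_im.1 hq
  · rw [← hΦ hg hk', hf _ (mul_mem hg hk'), hf g hg, hf k hk', hχ hg hk']
  · rw [hf g hg, hf k hk'] at e
    exact (key g hg k hk').2 e

/-- the discrete logarithm on `⟨κ⟩` -/
def dκ (p : P5) : C3 := if p = κ then .ofAdd 1 else if p = κ⁻¹ then .ofAdd (-1) else 1

theorem dκ_mul : ∀ p ∈ [1, κ, κ⁻¹], ∀ q ∈ [1, κ, κ⁻¹], dκ (p * q) = dκ p * dκ q := by
  decide +kernel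

def eσ (x : C3) : P3 := σ ^ x.toAdd.val

theorem eσ_mul : ∀ x y, eσ (x * y) = eσ x * eσ y := by decide +kernel
theorem eσ_ρ : ∀ x y, eσ (x * y⁻¹) * ρ = eσ x * (ρ * eσ y) := by decide +kernel
theorem eσ_ρρ : ∀ x y, eσ (x * y⁻¹) = eσ x * ρ * (eσ y * ρ) := by decide +kernel
theorem eσ_sign : ∀ x, sign (eσ x) = 1 ∧ sign (eσ x * ρ) ≠ 1 := by decide +kernel

/-- The quotient `C(t) / ⟨t⟩`. -/
structure Kb {X : Type*} [Group X] (z t : G) (ψ : G → P5) (z' : G) (χ : G → X) (φ : G → P3)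
    (m : PH PP X) : Prop where
  hχ : IsH (centralizer {t}) χ
  sur : ∀ x, ∃ g ∈ centralizer {t}, χ g = x
  ker : ∀ g ∈ centralizer {t}, χ g = 1 ↔ g = 1 ∨ g = t
  hφ : IsH (centralizer {t} ⊓ NL z) φ
  mS : ∀ p, p ∈ m.S ↔ ∃ g ∈ centralizer {t} ⊓ NL z, (φ g, ψ g) = p
  mf : ∀ g ∈ centralizer {t} ⊓ NL z, m.f (φ g, ψ g) = χ g
  φz : φ z = σ
  φz' : φ z' = 1
  sg : ∀ g ∈ centralizer {t} ⊓ NL z, sign (φ g) = 1 ↔ g * z * g⁻¹ = z

theorem mc {t g : G} : g ∈ centralizer {t} ↔ Commute t g :=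
  mem_centralizer_singleton_iff.trans eq_comm

namespace Su3

variable {S : Subgroup G} {z : G} {Q J L0 : Subgroup G} {ψ : G → P5} {t : G} {M0 : Subgroup G}
  {π : G → P6} {a b u z' : G} (h : Su3 S z Q J L0 ψ t M0 π a b u z') [Finite G]
include h

theorem cKC : Nat.card (centralizer {t} ⊓ centralizer {z} : Subgroup G) ∣ 720 := by
  have hz : ∀ g ∈ (centralizer {t} ⊓ centralizer {z} : Subgroup G), g * z * g⁻¹ = z := fun g hg =>
    mul_inv_eq_iff_eq_mul.2 (mem_centralizer_singleton_iff.1 hg.2)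
  have h1 := (h.hψ.mono fun g hg => h.memL.2 (Or.inl (hz g hg))).card_dvd (A := ⊤)
    (K := zpowers t ⊔ zpowers z) (fun _ _ => trivial) fun g hg e => by
      rcases h.kerT (hz g hg) e (mc.1 hg.1) with e1 | e1
      · exact mem_sup_right e1
      · simpa using mul_mem (mem_sup_right e1) (inv_mem (mem_sup_left (mem_zpowers t)) :
          t⁻¹ ∈ zpowers t ⊔ zpowers z)
  have h2 := H1.card_sup_dvd_of_le_normalizer (zpowers_le.2 h.tN)
  rw [h.cZ, Nat.card_zpowers, orderOf_eq_prime (hp := ⟨Nat.prime_two⟩) (pow_two t ▸ h.t2) h.t1] at h2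
  refine h1.trans ?_
  rw [card_top, Nat.card_perm, Nat.card_fin]
  exact Nat.mul_dvd_mul_left _ h2

theorem DC : S ⊓ centralizer {t} ≤ centralizer {t} ⊓ centralizer {z} := fun d hd =>
  ⟨hd.2, mem_centralizer_singleton_iff.2 (mul_inv_eq_iff_eq_mul.1 (h.LC d (h.SL hd.1)))⟩

theorem ZD : zpowers z < S ⊓ centralizer {t} := lt_of_le_of_ne
  (zpowers_le.2 ⟨h.QS h.zQ, mc.2 h.zt⟩) fun e => h.z'Q (h.ZQ (e ▸ ⟨h.z'S, mc.2 h.z't⟩))

theorem maxD {P : Subgroup G} (hP : IsPGroup 3 P) (h1 : S ⊓ centralizer {t} ≤ P)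
    (h2 : P ≤ centralizer {t} ⊓ centralizer {z}) : Nat.card P = 9 := by
  have : Fact (Nat.Prime 3) := ⟨by norm_num⟩
  obtain ⟨k, e⟩ := IsPGroup.iff_card.1 hP
  have h3 := H1.card_lt_of_lt (h.ZD.trans_le h1)
  have h4 := (card_dvd_of_le h2).trans h.cKC
  rw [h.cZ, e] at h3
  rw [e] at h4 ⊢
  have : k ≤ 2 := by
    by_contra! h5
    exact absurd ((pow_dvd_pow 3 h5).trans h4) (by norm_num)
  interval_cases k <;> omega

theorem cD : Nat.card (S ⊓ centralizer {t} : Subgroup G) = 9 :=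
  h.maxD (h.pS.to_le inf_le_left) le_rfl h.DC

theorem relD : ¬ 3 ∣ (S ⊓ centralizer {t}).relIndex (centralizer {t} ⊓ centralizer {z}) := fun e => by
  have h1 := H1.card_mul_relIndex_of_le h.DC
  have h2 := h.cKC
  obtain ⟨k, e⟩ := e
  rw [← h1, h.cD, e] at h2
  exact absurd ((show 27 ∣ 9 * (3 * k) from ⟨k, by ring⟩).trans h2) (by norm_num)

theorem n27 : ¬ 27 ∣ Nat.card (centralizer {t} : Subgroup G) := fun e => by
  have : Fact (Nat.Prime 3) := ⟨by norm_num⟩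
  obtain ⟨P, h1, h2⟩ := H4.exists_sylow_ge_not_dvd_relIndex (K := centralizer {t})
    (h.pS.to_le (inf_le_left : S ⊓ centralizer {t} ≤ S)) inf_le_right
  have h3 := H1.card_inf_mul_relIndex (P : Subgroup G) (centralizer {t})
  have h4 : S ⊓ centralizer {t} < (P : Subgroup G) ⊓ centralizer {t} :=
    lt_of_le_of_ne (le_inf h1 inf_le_right) fun e1 => by
      rw [← e1, h.cD] at h3
      omega
  have hP := P.2.to_le (inf_le_left : (P : Subgroup G) ⊓ centralizer {t} ≤ P)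
  have h5 := H4.lt_inf_normalizer_of_lt hP h4
  have h6 := h.maxD (hP.to_le inf_le_left) h5.le fun x hx => ⟨hx.1.2, ?_⟩
  · exact absurd (H1.card_lt_of_lt h5) (by rw [h6, h.cD]; omega)
  obtain ⟨k, hk⟩ := P.2 ⟨x, hx.1.1⟩
  have hk' : x ^ 3 ^ k = 1 := congrArg Subtype.val hk
  have hn := fun d => (mem_normalizer_iff.1 hx.2 d).1
  have hL : ∀ y, y ^ 3 ^ k = 1 → y ∈ NL z → y ∈ centralizer {z} := fun y hy hL => mem_of_sq hy
    (mem_centralizer_singleton_iff.2 (mul_inv_eq_iff_eq_mul.1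
      ((sgn_mul h.zne (h.memL.1 hL) (h.memL.1 hL)).2 Iff.rfl)))
  have a1 := hn z (h.ZD.le (mem_zpowers z))
  have a2 := hn z' ⟨h.z'S, mc.2 h.z't⟩
  have e1 : x * z' * x⁻¹ = x * u * z * (x * u)⁻¹ := by rw [← h.uz]; group
  rcases h.singD a1.1 (mc.1 a1.2) with e2 | e2
  · exact hL x hk' (h.memL.2 e2)
  rcases h.singD (e1 ▸ a2.1) (e1 ▸ mc.1 a2.2) with e3 | e3
  · refine mem_of_sq hk' (hL _ (by rw [← pow_two, ← pow_mul, mul_comm, pow_mul, hk', one_pow])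
      (h.memL' ?_))
    have e4 : x * x * z * (x * x)⁻¹ = x * (x * z * x⁻¹) * x⁻¹ := by group
    have e5 := nz (h.memL.2 e3) (mem_zpowers z)
    rw [← e1] at e5
    rcases e2 with e2 | e2 <;> rw [e4, e2]
    · exact e5
    · convert inv_mem e5 using 1; group
  · exfalso
    rw [← e1] at e3
    have e4 : x * z⁻¹ * x⁻¹ = (x * z * x⁻¹)⁻¹ := by group
    have k1 : ∀ w ∈ zpowers z, x * z' * x⁻¹ ≠ x * w * x⁻¹ := fun w hw e5 =>
      h.z'Q (h.ZQ (mul_left_cancel (mul_right_cancel e5) ▸ hw))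
    rcases e2 with e2 | e2 <;> rcases e3 with e3 | e3
    · exact k1 z (mem_zpowers z) (e3.trans e2.symm)
    · exact k1 _ (inv_mem (mem_zpowers z)) (by rw [e4, e2, e3])
    · exact k1 _ (inv_mem (mem_zpowers z)) (by rw [e4, e2, e3, inv_inv])
    · exact k1 z (mem_zpowers z) (e3.trans e2.symm)

theorem ψS {s : G} (hs : s ∈ S) : ψ s ∈ [1, κ, κ⁻¹] := by
  simp only [List.mem_cons, List.not_mem_nil, or_false]
  rcases h.sd hs with e | e | e
  · exact Or.inl (h.ψQ _ e)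
  · have := h.ψQ _ e
    rw [h.hψ (h.SN hs) h.z'N, h.ψz] at this
    exact Or.inr (Or.inr (eq_inv_of_mul_eq_one_left this))
  · have := h.ψQ _ e
    rw [h.hψ.div (h.SN hs) h.z'N, h.ψz] at this
    exact Or.inr (Or.inl (mul_inv_eq_one.1 this))

theorem exists_lam : ∃ l : G → C3, IsH (centralizer {t} ⊓ centralizer {z}) l ∧
    l z = .ofAdd 1 ∧ l z' = 1 := by
  have hu : ∀ d ∈ S ⊓ centralizer {t}, u * d * u⁻¹ ∈ J := fun d hd =>
    h.nJ (h.MN h.uM) (h.DJ hd.1 (mc.1 hd.2))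
  have hϕ : IsH (S ⊓ centralizer {t}) fun d => dκ (ψ (u * d * u⁻¹)) := fun x hx y hy => by
    beta_reduce
    rw [← dκ_mul _ (h.ψS (h.JS (hu x hx))) _ (h.ψS (h.JS (hu y hy))),
      ← h.hψ (h.JN (hu x hx)) (h.JN (hu y hy))]
    congr 2; group
  have m1 : z ∈ S ⊓ centralizer {t} := h.ZD.le (mem_zpowers z)
  have m2 : z' ∈ S ⊓ centralizer {t} := ⟨h.z'S, mc.2 h.z't⟩
  have v2 : dκ (ψ (u * z' * u⁻¹)) = 1 := by rw [h.uz', h.ψQ z h.zQ]; decide +kernel
  obtain ⟨l, h1, h2⟩ := exists_ext h.relD hϕ fun d hd k hk hkd => by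
    have hz := fun {w : G} => Su1.fixZ (w := w)
      (mul_inv_eq_iff_eq_mul.2 (mem_centralizer_singleton_iff.1 hk.2))
    have key : ∀ ε, ε = z' ∨ ε = z'⁻¹ → d * ε ∈ zpowers z →
        dκ (ψ (u * (k * d * k⁻¹) * u⁻¹)) = dκ (ψ (u * d * u⁻¹)) := fun ε hε e => by
      have mε : ε ∈ S ⊓ centralizer {t} := by rcases hε with rfl | rfl; exacts [m2, inv_mem m2]
      have m3 : k * ε * k⁻¹ ∈ S ⊓ centralizer {t} := by
        convert mul_mem (inv_mem hkd) (h.ZD.le e) using 1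
        rw [← hz e]; group
      have m4 : k * z' * k⁻¹ ∈ S ⊓ centralizer {t} := by
        rcases hε with rfl | rfl
        · exact m3
        · convert inv_mem m3 using 1; group
      have e1 : k * z' * k⁻¹ = k * u * z * (k * u)⁻¹ := by rw [← h.uz]; group
      have e2 : k * z' * k⁻¹ = z' ∨ k * z' * k⁻¹ = z'⁻¹ := by
        rcases h.singD (e1 ▸ m4.1) (e1 ▸ mc.1 m4.2) with e2 | e2
        · have e3 := nz (h.memL.2 e2) (mem_zpowers z)
          rw [← e1] at e3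
          have e4 := mul_left_cancel (mul_right_cancel (hz e3))
          exact absurd (h.ZQ (e4 ▸ e3)) h.z'Q
        · exact e1 ▸ e2
      have v3 : dκ (ψ (u * z'⁻¹ * u⁻¹)) = 1 := (hϕ.inv m2).trans (by simp [v2])
      have v4 : dκ (ψ (u * ε * u⁻¹)) = 1 := by rcases hε with rfl | rfl; exacts [v2, v3]
      have v5 : dκ (ψ (u * (k * ε * k⁻¹) * u⁻¹)) = 1 := by
        have e3 : k * z'⁻¹ * k⁻¹ = (k * z' * k⁻¹)⁻¹ := by group
        rcases hε with rfl | rfl <;> rcases e2 with e2 | e2 <;> simp only [e2, e3, inv_inv, v2, v3]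
      have a1 := hϕ hd mε
      have a2 := hϕ hkd m3
      beta_reduce at a1 a2
      rw [v4, mul_one] at a1
      rw [v5, mul_one] at a2
      rw [← a1, ← a2, ← hz e]; congr 4; group
    rcases h.memD hd.1 (mc.1 hd.2) with e | e | e
    · rw [hz e]
    · exact key _ (Or.inl rfl) e
    · exact key _ (Or.inr rfl) e
  exact ⟨l, h1, by rw [h2 z m1 (h.DC m1), h.uz, h.ψz]; decide +kernel,
    by rw [h2 z' m2 (h.DC m2), v2]⟩

theorem exists_Kb {X : Type*} [Group X] {χ : G → X} (hχ : IsH (centralizer {t}) χ)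
    (sur : ∀ x, ∃ g ∈ centralizer {t}, χ g = x)
    (ker : ∀ g ∈ centralizer {t}, χ g = 1 ↔ g = 1 ∨ g = t) : ∃ φ m, Kb z t ψ z' χ φ m := by
  classical
  obtain ⟨l, hl, lz, lz'⟩ := h.exists_lam
  have mC : ∀ {g}, g ∈ (centralizer {t} ⊓ centralizer {z} : Subgroup G) ↔
      g ∈ centralizer {t} ∧ g * z * g⁻¹ = z := by
    intro g
    rw [mem_inf, mem_centralizer_singleton_iff (g := z), mul_inv_eq_iff_eq_mul]
  have bK : b ∈ centralizer {t} := mc.2 h.bt.symm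
  have tK : t ∈ centralizer {t} := mc.2 (Commute.refl t)
  have hb : ∀ c ∈ (centralizer {t} ⊓ centralizer {z} : Subgroup G), b * c * b⁻¹ ∈
      (centralizer {t} ⊓ centralizer {z} : Subgroup G) := fun c hc => mC.2
    ⟨mul_mem (mul_mem bK hc.1) (inv_mem bK), by
      calc _ = b * c * (b⁻¹ * z⁻¹ * b)⁻¹ * c⁻¹ * b⁻¹ := by group
        _ = b * (c * z * c⁻¹)⁻¹ * b⁻¹ := by rw [← h.bz]; group
        _ = (b * z * b⁻¹)⁻¹ := by rw [(mC.1 hc).2]; group
        _ = z := by rw [h.bz, inv_inv]⟩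
  have m1 : z ∈ (centralizer {t} ⊓ centralizer {z} : Subgroup G) := h.DC (h.ZD.le (mem_zpowers z))
  have m2 : z' ∈ (centralizer {t} ⊓ centralizer {z} : Subgroup G) := h.DC ⟨h.z'S, mc.2 h.z't⟩
  have m3 : t ∈ (centralizer {t} ⊓ centralizer {z} : Subgroup G) := mC.2 ⟨tK, h.tz⟩
  have lt : l t = 1 := by
    have := hl m3 m3
    rw [h.t2, hl.one] at this
    revert this; generalize l t = x; revert x; decide
  have lb : ∀ c ∈ (centralizer {t} ⊓ centralizer {z} : Subgroup G), l (b * c * b⁻¹) = (l c)⁻¹ := by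
    intro c hc
    have hμ : IsH (centralizer {t} ⊓ centralizer {z}) fun c => l c * l (b * c * b⁻¹) :=
      fun x hx y hy => by
        beta_reduce
        rw [hl hx hy, mul_mul_mul_comm, ← hl (hb x hx) (hb y hy)]; congr 2; group
    refine eq_inv_of_mul_eq_one_right (hom_triv h.DC h.relD hμ (fun d hd => ?_) hc)
    have k1 : ∀ w ∈ zpowers z, l w * l (b * w * b⁻¹) = 1 := fun w hw => by
      rw [Su1.invZ h.bz hw, hl.inv (h.DC (h.ZD.le hw)), mul_inv_cancel]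
    have k2 : l z' * l (b * z' * b⁻¹) = 1 := by rw [h.bz', hl.inv m2, mul_inv_cancel]
    rcases h.memD hd.1 (mc.1 hd.2) with e | e | e
    · exact k1 d e
    · have := hμ (h.DC hd) m2
      beta_reduce at this
      rw [k1 _ e, k2, mul_one] at this; exact this.symm
    · have := hμ.div (h.DC hd) m2
      beta_reduce at this
      rw [k1 _ e, k2, inv_one, mul_one] at this; exact this.symm
  let φ : G → P3 := fun g => if g * z * g⁻¹ = z then eσ (l g) else eσ (l (g * b⁻¹)) * ρ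
  have hn : ∀ g ∈ centralizer {t} ⊓ NL z, ¬ g * z * g⁻¹ = z → g * b⁻¹ ∈
      (centralizer {t} ⊓ centralizer {z} : Subgroup G) := fun g hg e => mC.2
    ⟨mul_mem hg.1 (inv_mem bK), (sgn_mul h.zne (h.memL.1 hg.2) (h.memL.1 (inv_mem h.bN))).2
      (iff_of_false e fun e1 => h.zne (by rw [← h.bz]; nth_rewrite 2 [← e1]; group))⟩
  have hφ : IsH (centralizer {t} ⊓ NL z) φ := fun x hx y hy => by
    have e0 := sgn_mul h.zne (h.memL.1 hx.2) (h.memL.1 hy.2)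
    by_cases ex : x * z * x⁻¹ = z <;> by_cases ey : y * z * y⁻¹ = z <;>
      simp only [φ, e0, ex, ey, if_true, if_false, iff_true, iff_false, not_true, not_false_iff]
    · rw [hl (mC.2 ⟨hx.1, ex⟩) (mC.2 ⟨hy.1, ey⟩), eσ_mul]
    · rw [mul_assoc, hl (mC.2 ⟨hx.1, ex⟩) (hn y hy ey), eσ_mul, mul_assoc]
    · rw [mul_assoc (eσ _), ← eσ_ρ, ← lb y (mC.2 ⟨hy.1, ey⟩),
        ← hl (hn x hx ex) (hb y (mC.2 ⟨hy.1, ey⟩))]
      congr 3; group
    · rw [← eσ_ρρ, ← lb _ (hn y hy ey), ← hl (hn x hx ex) (hb _ (hn y hy ey)),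
        ← mul_one (l (x * b⁻¹ * _)), ← lt,
        ← hl (mul_mem (hn x hx ex) (hb _ (hn y hy ey))) m3, ← h.b2]
      congr 2; group
  have sg : ∀ g ∈ centralizer {t} ⊓ NL z, sign (φ g) = 1 ↔ g * z * g⁻¹ = z := fun g _ => by
    by_cases e : g * z * g⁻¹ = z <;> simp only [φ, e, if_true, if_false, iff_true, iff_false]
    exacts [(eσ_sign _).1, (eσ_sign _).2]
  have hΦ : IsH (centralizer {t} ⊓ NL z) fun g => (φ g, ψ g) := fun x hx y hy => by
    simp only [hφ hx hy, h.hψ hx.2 hy.2, Prod.mk_mul_mk]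
  have φt : φ t = 1 := by simp only [φ, h.tz, if_true, lt]; decide +kernel
  obtain ⟨m, h1, h2⟩ := exists_PH hΦ (hχ.mono inf_le_left) fun g hg => by
    rw [ker g hg.1]
    refine ⟨fun e => ?_, by rintro (rfl | rfl); exacts [hΦ.one, Prod.ext φt h.ψt]⟩
    have e1 : φ g = 1 := congrArg Prod.fst e
    have e2 := (sg g hg).1 (by rw [e1]; simp)
    have key : ∀ g, g ∈ zpowers z → l g = 1 → g = 1 := fun g hg e => by
      rcases h.memZ.1 hg with e1 | e1 | e1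
      · exact e1
      · rw [e1, lz] at e; exact absurd e (by decide)
      · rw [e1, hl.inv m1, lz] at e; exact absurd e (by decide)
    have e3 : l g = 1 := by
      simp only [φ, e2, if_true] at e1
      revert e1; generalize l g = x; revert x; decide +kernel
    refine (h.kerT e2 (congrArg Prod.snd e) (mc.1 hg.1)).imp (fun e4 => key g e4 e3) fun e4 => ?_
    rw [← h.ti]
    exact eq_inv_of_mul_eq_one_left (key _ e4 (by rw [hl (mC.2 ⟨hg.1, e2⟩) m3, e3, lt, one_mul]))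
  refine ⟨φ, m, hχ, sur, ker, hφ, h1, h2, ?_, ?_, sg⟩
  · simp only [φ, mul_inv_cancel_right, if_true, lz]; decide +kernel
  · simp only [φ, (mC.1 m2).2, if_true, lz']; decide +kernel

end Su3

end H87.Mc
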