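import Cfsg.Agent.Lib.Mc3.Kb
import Cfsg.Agent.Lib.Mc3.Sy
import Cfsg.Agent.Lib.A8.Main8

/-! `C(t) / ⟨t⟩` is `A₈` or `S₈`. -/

set_option autoImplicit false

namespace H87.Mc

open Subgroup Equiv Equiv.Perm H58 H58.Cd H58.St H58.SE
open scoped Pointwise

variable {G : Type*} [Group G]

theorem inv_adj {v t n : G} (e : v = n * t) (v2 : v * v = 1) (t2 : t * t = 1) (n3 : n ^ 3 = 1) :
    n * v * n⁻¹ = t := by
  subst e
  have ti : t⁻¹ = t := inv_eq_of_mul_eq_one_right t2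
  have e : t * n⁻¹ = n * t := by rw [← inv_eq_of_mul_eq_one_right v2, mul_inv_rev, ti]
  calc _ = n * n * (t * n⁻¹) := by group
    _ = n ^ 3 * t := by rw [e, pow_three']; group
    _ = t := by rw [n3, one_mul]

theorem mem_z2 {t g : G} (t2 : t * t = 1) : g ∈ zpowers t ↔ g = 1 ∨ g = t := by
  refine ⟨?_, by rintro (rfl | rfl); exacts [one_mem _, mem_zpowers _]⟩
  rintro ⟨k, rfl⟩
  have e : ∀ j : ℤ, t ^ (2 * j) = 1 := fun j => by
    rw [zpow_mul, zpow_two, t2, one_zpow]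
  obtain ⟨j, rfl | rfl⟩ := Int.even_or_odd' k
  · exact Or.inl (e j)
  · exact Or.inr (by simp only [zpow_add, e, one_mul, zpow_one])

namespace Su3

variable {S : Subgroup G} {z : G} {Q J L0 : Subgroup G} {ψ : G → P5} {t : G} {M0 : Subgroup G}
  {π : G → P6} {a b u z' : G} (h : Su3 S z Q J L0 ψ t M0 π a b u z') [Finite G]
include h

theorem nrmS' {l : G} (hl : l ∈ NL z) (h1 : l * z' * l⁻¹ ∈ S) : l ∈ normalizer (S : Set G) := by
  refine mem_normalizer_fintype fun s hs => ?_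
  rw [SetLike.mem_coe]
  rcases h.sd hs with e | e | e
  · exact h.QS (h.nQ l hl _ e)
  · convert mul_mem (h.QS (h.nQ l hl _ e)) (inv_mem h1) using 1; group
  · convert mul_mem (h.QS (h.nQ l hl _ e)) h1 using 1; group

theorem liftL {p : P5} (hp : sign p = 1) : ∃ g ∈ L0, Commute t g ∧ ψ g = p := by
  obtain ⟨l, hl, rfl⟩ := h.ψsur p hp
  have hn : l * t * l⁻¹ * t⁻¹ ∈ Q := by
    convert inv_mem (h.cen t h.tN h.ψt l hl) using 1; group
  exact ⟨_, mul_mem (h.QL hn) hl, (cent_adj (by group) h.t2 (h.eQ _ hn)).symm,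
    by rw [h.hψ (h.QN hn) (h.LN hl), h.ψQ _ hn, one_mul]⟩

theorem invM {v : G} (hv : v ∈ M0) (v2 : v * v = 1) (v1 : v ≠ 1) : ∃ g, g * v * g⁻¹ = t := by
  obtain ⟨g0, hg0, e⟩ := a6_inv (p := π v) (by rw [← h.hπ hv hv, v2, h.hπ.one])
    (fun e => v1 (eq_one_of_23 v2 (h.eJ v ((h.πker v hv).1 e)))) (h.πev v hv)
  obtain ⟨g, hg, rfl⟩ := h.πsur g0 hg0
  have hn := h.eqπ (h.nM g (h.MN hg) v hv) h.tM (by rw [h.hπ.conj hg hv, e, h.πt])
  refine ⟨g * v * g⁻¹ * t⁻¹ * g, ?_⟩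
  convert inv_adj (v := g * v * g⁻¹) (by group) (conj_sq v2) h.t2 (h.eJ _ hn) using 1
  group

end Su3

namespace Kb

variable {S : Subgroup G} {z : G} {Q J L0 : Subgroup G} {ψ : G → P5} {t : G} {M0 : Subgroup G}
  {π : G → P6} {a b u z' : G} {X : Type*} [Group X] {χ : G → X} {φ : G → P3} {m : PH PP X}
  (k : Kb z t ψ z' χ φ m) (h : Su4 S z Q J L0 ψ t M0 π a b u z') [Finite G]
include k h

omit [Finite G] in
theorem eqχ {x y : G} (hx : Commute t x) (hy : Commute t y) (e : χ x = χ y) : x = y ∨ x = y * t := by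
  have := (k.ker _ (mc.2 (hy.inv_right.mul_right hx))).1
    (by rw [k.hχ.ldiv (mc.2 hy) (mc.2 hx), e, inv_mul_cancel])
  exact this.imp (fun e => (inv_mul_eq_one.1 e).symm) fun e => by rw [← e]; group

omit [Finite G] in
theorem χ3 {x y : G} (hx : Commute t x) (hy : Commute t y) (x3 : x ^ 3 = 1) (y3 : y ^ 3 = 1)
    (e : χ x = χ y) : x = y :=
  eq_of_cube h.t2 h.t1 x3 y3 hy.symm (k.eqχ h hx hy e)

omit [Finite G] in
theorem χt : χ t = 1 := (k.ker t (mc.2 (Commute.refl t))).2 (Or.inr rfl)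

theorem e10 : e m 1 0 = χ z := by
  rw [← k.mf z ⟨mc.2 h.zt, h.QN h.zQ⟩, k.φz, h.ψQ z h.zQ, e, pe_z]

theorem e01 : e m 0 1 = χ z' := by
  rw [← k.mf z' ⟨mc.2 h.z't, h.z'N⟩, k.φz', h.ψz, e, pe_z']

theorem aK : a ∈ centralizer {t} ⊓ NL z := ⟨mc.2 h.at'.symm, h.aN⟩
theorem bK : b ∈ centralizer {t} ⊓ NL z := ⟨mc.2 h.bt.symm, h.bN⟩
theorem tK : t ∈ centralizer {t} ⊓ NL z := ⟨mc.2 (Commute.refl t), h.tN⟩
theorem zK : z ∈ centralizer {t} ⊓ NL z := ⟨mc.2 h.zt, h.QN h.zQ⟩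

theorem sgb : sign (φ b) = -1 := (Int.units_eq_one_or _).resolve_left fun e =>
  h.zne (((k.sg b (k.bK h)).1 e).symm.trans h.bz)

theorem φt : φ t = 1 := by
  have e1 := (k.sg t (k.tK h)).2 h.tz
  have e2 := k.hφ (k.tK h) (k.tK h)
  rw [h.t2, k.hφ.one] at e2
  revert e1 e2; generalize φ t = p; revert p; decide +kernel

theorem fa : m.f (1, ω) = χ a := by
  have e1 := (k.sg a (k.aK h)).2 h.az
  have e2 := k.hφ (k.aK h) (k.aK h)
  rw [h.a2, k.φt h] at e2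
  have : φ a = 1 := by revert e1 e2; generalize φ a = p; revert p; decide +kernel
  rw [← k.mf a (k.aK h), this, h.ψa]

theorem evev {p : PP} (h1 : sign p.1 = 1) (h2 : sign p.2 = 1) : p ∈ m.S := by
  obtain ⟨g, hg, c, e⟩ := h.liftL h2
  have hK : g ∈ centralizer {t} ⊓ NL z := ⟨mc.2 c, h.LN hg⟩
  have key : ∀ p q : P3, sign p = 1 → sign q = 1 → ∃ i : Fin 3, σ ^ i.val * q = p := by
    decide +kernel
  obtain ⟨i, e1⟩ := key _ _ h1 ((k.sg g hK).2 (h.LC g hg))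
  refine (k.mS p).2 ⟨z ^ i.val * g, mul_mem (pow_mem (k.zK h) _) hK, Prod.ext ?_ ?_⟩
  · simp only [k.hφ (pow_mem (k.zK h) _) hK, k.hφ.pow (k.zK h), k.φz, e1]
  · simp only [h.hψ (pow_mem (k.zK h).2 _) hK.2, h.ψQ _ (pow_mem h.zQ _), e, one_mul]

theorem evS {p : PP} (hp : ev p) : p ∈ m.S := by
  unfold ev at hp
  rcases Int.units_eq_one_or (sign p.1) with e | e
  · exact k.evev h e (by simpa [e] using hp)
  · have hb : (φ b, ψ b) ∈ m.S := (k.mS _).2 ⟨b, k.bK h, rfl⟩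
    have e2 : sign p.2 = -1 := by
      rw [e, neg_one_mul, neg_eq_iff_eq_neg] at hp; exact hp
    have e3 : sign ι5 = -1 := by decide +kernel
    have := mul_mem (k.evev h (p := p * (φ b, ψ b)⁻¹) (by simp [e, k.sgb h])
      (by simp [e2, h.ψb, e3])) hb
    rwa [inv_mul_cancel_right] at this

theorem cardX : Nat.card (centralizer {t} : Subgroup G) = Nat.card X * 2 := by
  rw [k.hχ.card_eq' (A := ⊤) (K := zpowers t) (fun x => by simpa using k.sur x) fun g => ?_,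
    card_top, Nat.card_zpowers, orderOf_eq_prime (hp := ⟨Nat.prime_two⟩) (pow_two t ▸ h.t2) h.t1]
  rw [mem_z2 h.t2]
  exact ⟨fun e => ⟨by rcases e with rfl | rfl; exacts [one_mem _, (k.tK h).1], (k.ker g (by
    rcases e with rfl | rfl; exacts [one_mem _, (k.tK h).1])).2 e⟩, fun e => (k.ker g e.1).1 e.2⟩

theorem finX : Finite X := Nat.finite_of_card_ne_zero fun e => by
  have := k.cardX h
  rw [e] at this
  exact Nat.card_pos.ne' this

theorem ba : Ba m where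
  ev := k.evS h
  h27 := fun e => h.n27 (k.cardX h ▸ e.mul_right 2)
  hL := fun x => by
    obtain ⟨g, hg, rfl⟩ := k.sur x
    have c := mc.1 hg
    have c1 := (c.mul_right h.zt).mul_right c.inv_right
    rw [k.e10 h, ← k.hχ.conj hg (k.zK h).1, ← k.hχ.inv (k.zK h).1]
    refine ⟨fun e => ?_, fun e => ?_⟩
    · obtain ⟨p, hp, e⟩ := m.mem_range.1 e
      obtain ⟨g', hg', rfl⟩ := (k.mS p).1 hp
      rw [k.mf g' hg'] at e
      have : g ∈ NL z := by
        rcases k.eqχ h c (mc.1 hg'.1) e.symm with rfl | rfl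
        exacts [hg'.2, mul_mem hg'.2 h.tN]
      exact (h.memL.1 this).imp (congrArg χ) (congrArg χ)
    · have : g ∈ NL z := h.memL.2 (e.imp (k.χ3 h c1 h.zt (conj3 h.z3 g) h.z3)
        (k.χ3 h c1 h.zt.inv_right (conj3 h.z3 g) (by rw [inv_pow, h.z3, inv_one])))
      rw [← k.mf g ⟨hg, this⟩]
      exact m.f_mem ((k.mS _).2 ⟨g, ⟨hg, this⟩, rfl⟩)

theorem χD {d : G} (hd : d ∈ S) (c : Commute t d) : χ d ∈ DD m := by
  have hZ : ∀ w ∈ zpowers z, χ w ∈ DD m := fun w hw => by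
    have h1 : χ z ∈ DD m := k.e10 h ▸ (k.ba h).e_mem 1 0
    rcases h.memZ.1 hw with e | e | e <;> rw [e]
    exacts [k.hχ.one ▸ one_mem _, h1, k.hχ.inv (k.zK h).1 ▸ inv_mem h1]
  have h2 : χ z' ∈ DD m := k.e01 h ▸ (k.ba h).e_mem 0 1
  rcases h.memD hd c with e | e | e
  · exact hZ d e
  · have := hZ _ e
    rw [k.hχ (mc.2 c) (mc.2 h.z't)] at this
    simpa using mul_mem this (inv_mem h2)
  · have := hZ _ e
    rw [k.hχ.div (mc.2 c) (mc.2 h.z't)] at this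
    simpa using mul_mem this h2

theorem sb [Finite X] (HY : ∀ c, c * (z * z') = z * z' * c → c ∈ normalizer (J : Set G)) :
    Sb m (χ u) where
  toBa := k.ba h
  b2 := by rw [← k.hχ (mc.2 h.ut.symm) (mc.2 h.ut.symm), h.u2, k.hχ.one]
  bz := by rw [k.e10 h, k.e01 h, ← k.hχ.conj (mc.2 h.ut.symm) (k.zK h).1, h.uz]
  good := fun x hx => by
    obtain ⟨g, hg, rfl⟩ := k.sur x
    have c := mc.1 hg
    have cy := h.zt.mul_right h.z't
    have y3 : (z * z') ^ 3 = 1 := h.eJ _ (mul_mem h.zJ h.z'J)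
    have e11 : e m 1 1 = χ (z * z') := by
      rw [k.hχ (k.zK h).1 (mc.2 h.z't), ← k.e10 h, ← k.e01 h, (k.ba h).e_mul]; rfl
    have hM := HY g (mul_inv_eq_iff_eq_mul.1 (k.χ3 h ((c.mul_right cy).mul_right c.inv_right) cy
      (conj3 y3 g) y3 (by rw [k.hχ.conj hg (mc.2 cy), ← e11, hx, mul_inv_cancel_right])))
    have key : ∀ d ∈ J, Commute t d → χ g * χ d * (χ g)⁻¹ ∈ DD m := fun d hd cd => by
      rw [← k.hχ.conj hg (mc.2 cd)]
      exact k.χD h (h.JS (h.nJ hM hd)) ((c.mul_right cd).mul_right c.inv_right)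
    obtain ⟨α, β, e1⟩ := (k.ba h).mem_D.1 (key z h.zJ h.zt)
    obtain ⟨γ, δ, e2⟩ := (k.ba h).mem_D.1 (key z' h.z'J h.z't)
    exact (k.ba h).mem_N (k.e10 h ▸ e1) (k.e01 h ▸ e2)

theorem altA (HY : ∀ c, c * (z * z') = z * z' * c → c ∈ normalizer (J : Set G))
    (hA : ∀ c ∈ NL z, ψ c = 1 → c * z * c⁻¹ = z) : Nonempty (X ≃* alternatingGroup (Fin 8)) := by
  have := k.finX h
  refine (k.sb h HY).alt8 fun p hp => ?_
  by_contra hn
  have h1 : ((ρ, 1) * p : PP) ∈ m.S := k.evS h (by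
    unfold ev at hn ⊢
    have e : sign ρ = -1 := by decide +kernel
    simp only [Prod.fst_mul, Prod.snd_mul, map_mul, e, one_mul, mul_assoc]
    rw [(Int.units_eq_one_or _).resolve_left hn]; simp)
  obtain ⟨g, hg, e⟩ := (k.mS _).1 (mul_mem h1 (inv_mem hp))
  rw [mul_inv_cancel_right] at e
  have e1 := (k.sg g hg).2 (hA g hg.2 (congrArg Prod.snd e))
  rw [show φ g = ρ from congrArg Prod.fst e] at e1
  exact absurd e1 (by decide +kernel)

variable {s : G} (hs : SB S Q J ψ t a s)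
include hs

theorem sK : s ∈ centralizer {t} ⊓ NL z := ⟨mc.2 hs.st, h.NSL hs.sS⟩

theorem sgs : sign (φ s) = -1 := (Int.units_eq_one_or _).resolve_left fun e =>
  h.zne (((k.sg s (k.sK h hs)).1 e).symm.trans (hs.inv z h.zJ))

theorem top (p : PP) : p ∈ m.S := by
  by_cases hp : ev p
  · exact k.evS h hp
  have h1 : (φ s, ψ s) ∈ m.S := (k.mS _).2 ⟨s, k.sK h hs, rfl⟩
  have e : sign ω = 1 := by decide +kernel
  have := mul_mem (k.evS h (p := p * (φ s, ψ s)⁻¹) (by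
    unfold ev at hp ⊢
    simp only [Prod.fst_mul, Prod.snd_mul, Prod.fst_inv, Prod.snd_inv, map_mul, sign_inv, hs.ψs, e,
      k.sgs h hs, mul_one]
    rw [mul_right_comm, (Int.units_eq_one_or _).resolve_left hp]; simp)) h1
  rwa [inv_mul_cancel_right] at this

theorem goodB [Finite X] (HY : ∀ c, c * (z * z') = z * z' * c → c ∈ normalizer (J : Set G)) :
    ∃ b', Sb m b' ∧ b' * m.f (1, ω) * b'⁻¹ = m.f (ρ, τ) := by
  obtain ⟨b', hb, hw | ⟨hρ, hw⟩⟩ := (k.sb h HY).exists_w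
  · exact ⟨b', hb, hw⟩
  exfalso
  obtain ⟨g, hg, rfl⟩ := k.sur b'
  have c := mc.1 hg
  have e1 : g * z * g⁻¹ = z' := k.χ3 h ((c.mul_right h.zt).mul_right c.inv_right) h.z't
    (conj3 h.z3 g) h.z'3 (by rw [k.hχ.conj hg (k.zK h).1, ← k.e10 h, ← k.e01 h, hb.bz])
  have e2 : g * z' * g⁻¹ = z := k.χ3 h ((c.mul_right h.z't).mul_right c.inv_right) h.zt
    (conj3 h.z'3 g) h.z3 (by rw [k.hχ.conj hg (mc.2 h.z't), ← k.e10 h, ← k.e01 h, hb.bz'])
  have hM : g ∈ normalizer (J : Set G) := by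
    have := mul_mem (inv_mem (h.MN h.uM)) (h.NSM (h.nrmS' (l := u * g) (h.memL.2 (Or.inl (by
      calc _ = u * (g * z * g⁻¹) * u⁻¹ := by group
        _ = z := by rw [e1, h.uz']))) (by
      convert h.z'S using 1
      calc _ = u * (g * z' * g⁻¹) * u⁻¹ := by group
        _ = z' := by rw [e2, h.uz])))
    rwa [inv_mul_cancel_left] at this
  obtain ⟨c', hc', e3⟩ := (k.mS _).1 hρ
  rw [k.fa h, ← e3, k.mf c' hc', ← k.hχ.conj hg (k.aK h).1] at hw
  have e4 : ψ c' = 1 := congrArg Prod.snd e3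
  have e5 : g * a * g⁻¹ ∈ NL z ∧ ψ (g * a * g⁻¹) = 1 := by
    rcases k.eqχ h ((c.mul_right h.at'.symm).mul_right c.inv_right) (mc.1 hc'.1) hw with e | e <;>
      rw [e]
    · exact ⟨hc'.2, e4⟩
    · exact ⟨mul_mem hc'.2 h.tN, by rw [h.hψ hc'.2 h.tN, e4, h.ψt, one_mul]⟩
  refine h.bad (h.kerS e5.1 e5.2) ?_ e5.2
  have key : ∀ g, In1 M0 a g → a⁻¹ * (g * a * g⁻¹) ∈ M0 := fun g hg => by
    rcases hg with hg | hg
    · exact h.cjA (by simp) hg
    · convert mul_mem hg (h.nM a h.aM _ (inv_mem hg)) using 1; group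
  rcases h.nfB hs hM with e | e
  · exact key g e
  · convert key _ e using 2
    rw [mul_assoc g s a, hs.sa.eq]; group

end Kb

end H87.Mc
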