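import Cfsg.Agent.Lib.Mc3.Co
import Cfsg.Agent.Lib.LocStruct.Res
import Cfsg.Agent.Lib.Core.CoprimeAbelian
import Cfsg.Agent.Lib.BG6.PLength
import Cfsg.Agent.S4215
import Cfsg.Agent.S3347

/-! Centralisers of the subgroups of order nine of `J` that contain `z z'`. -/

set_option autoImplicit false

namespace H87.Mc

open Subgroup Equiv Equiv.Perm H58 H58.Cd H58.St H58.SE H53.Odd Cfsg
open H58.N9 (W act mw kap)
open scoped Pointwise

theorem rot_fix : ∀ x : V27, act (0, 1, 0) x = x → x = x.1.val • (1, 1, 1) := by decide +kernel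
theorem stab_A : ∀ w : W, w.2.2 = 0 → (1, 2, 0) = act w (1, 2, 0) → w = 0 := by decide +kernel
theorem stab_B : ∀ w : W, (1, 2, 0) = act w (1, 2, 0) → w = (0, 0, 1) ∨ w = 0 := by decide +kernel
theorem dec_B : ∀ x : V27, ∃ i j l : Fin 3,
    x = i.val • (1, 2, 0) + (j.val • (1, 1, 0) + l.val • (0, 0, 1)) := by decide +kernel
theorem act_σ : act (0, 0, 1) (1, 2, 0) = (1, 2, 0) ∧ act (0, 0, 1) (0, 0, 1) = -(0, 0, 1) ∧
    act (0, 0, 1) (1, 1, 0) = -(1, 1, 0) := by decide +kernel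

variable {G : Type*} [Group G]

/-- `O³(C)` -/
abbrev RR (C : Subgroup G) : Subgroup G := (pResidual 3 C).map C.subtype

theorem inv_RR {C : Subgroup G} {x : G} (hx : x ∈ C) (h2 : x * x = 1) : x ∈ RR C :=
  H69.mem_res hx (Nat.Coprime.coprime_dvd_left (orderOf_dvd_of_pow_eq_one (n := 2)
    (by rw [pow_two, h2])) (by norm_num))

theorem com_RR {C : Subgroup G} {x v : G} (hx : x ∈ C) (hv : v ∈ C) (h2 : x * x = 1)
    (v3 : v ^ 3 = 1) (e : x * v * x⁻¹ = v⁻¹) : v ∈ RR C := by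
  have := mul_mem (inv_RR hx h2) (inv_RR (mul_mem (mul_mem hv hx) (inv_mem hv)) (conj_sq h2))
  convert this using 1
  calc v = x * v * x⁻¹ * (x * x) * v⁻¹ := by rw [e, h2, mul_one, sq3 (by rw [inv_pow, v3, inv_one]), inv_inv]
    _ = _ := by group

theorem ncyc {A : Subgroup G} (h3 : ∀ x ∈ A, x ^ 3 = 1) {x y : G} (hx : x ∈ A) (hy : y ∈ A)
    (x1 : x ≠ 1) (hxy : y ∉ zpowers x) : ¬ IsCyclic A := fun hc => by
  obtain ⟨g, hg⟩ := IsCyclic.exists_generator (α := A)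
  have k : ∀ v ∈ A, v ∈ zpowers (g : G) := fun v hv => by
    obtain ⟨k, e⟩ := hg ⟨v, hv⟩
    exact ⟨k, congrArg Subtype.val e⟩
  refine hxy (zpowers_le.2 ?_ (k y hy))
  rcases (mem_z3 (h3 g g.2)).1 (k x hx) with e | e | e
  · exact absurd e x1
  · exact e ▸ mem_zpowers _
  · rw [← inv_mem_iff, ← e]; exact mem_zpowers _

namespace Su1

variable {S : Subgroup G} {z : G} {Q J L0 : Subgroup G} {ψ : G → P5} {t : G}
  (h : Su1 S z Q J L0 ψ t) [Finite G]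
include h

theorem nJ3 {P : Subgroup G} (hP : IsPGroup 3 P) (hJ : J ≤ P) : P ≤ normalizer (J : Set G) :=
  fun g hg => mem_normalizer_fintype fun j hj => by
    rw [← h.uniqP (h.aJ.conj g) h.aJ hP (fun x hx => by
      simpa [mul_assoc] using mul_mem (mul_mem hg (hJ (H1.mem_conj_smul_iff.1 hx))) (inv_mem hg)) hJ]
    exact H1.conj_mem_conj_smul hj

theorem HW {C H0 : Subgroup G} (hJ : J ≤ C)
    (h0 : ∀ g ∈ C, g ∈ normalizer (J : Set G) → ∃ k, g ^ 3 ^ k ∈ H0) :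
    RR C ⊓ normalizer (J : Set G) ≤ H0 := by
  have : Fact (Nat.Prime 3) := ⟨by norm_num⟩
  obtain ⟨P, hP⟩ := (h.aJ.pg.comap_subtype (K := C)).exists_le_sylow
  have hP' : IsPGroup 3 ((P : Subgroup C).map C.subtype) := P.2.map _
  have hJP : J ≤ (P : Subgroup C).map C.subtype := fun j hj => ⟨⟨j, hJ hj⟩, hP hj, rfl⟩
  have key := Agent.S4215.result P (J.subgroupOf C) ⟨hP, fun g hg => by
    have := h.uniqP (h.aJ.conj g) h.aJ hP' (fun x hx => by
      have h1 := H1.mem_conj_smul_iff.1 hx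
      exact ⟨_, hg ⟨⟨_, hJ h1⟩, h1, rfl⟩, by simp [mul_assoc]⟩) hJP
    refine eq_of_card ?_ (by rw [card_map_of_injective (MulAut.conj g).injective])
    rintro _ ⟨x, hx, rfl⟩
    exact this.le (H1.conj_mem_conj_smul hx)⟩ fun x hx j hj => by
      have h1 := h.nJ (inv_mem (h.nJ3 hP' hJP ⟨x, hx, rfl⟩)) (inv_mem hj)
      have h2 := h.comJ (mul_mem h1 hj) hj
      refine Subtype.ext ?_
      change ((x : G)⁻¹ * (j : G)⁻¹ * x * j)⁻¹ * (j : G)⁻¹ * ((x : G)⁻¹ * (j : G)⁻¹ * x * j) * j = 1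
      simp only [coe_subtype, inv_inv] at h2
      rw [mul_assoc, h2]; group
  rintro _ ⟨⟨g, hg, rfl⟩, hn⟩
  have h1 : g ∈ RR (normalizer (J.subgroupOf C : Set C)) := key.ge ⟨hg, by
    rw [← subgroupOf_normalizer_eq hJ]; exact hn⟩
  refine H69.res_le_of_pow_mem (N := H0.subgroupOf C) (fun x hx => h0 x x.2 ?_) h1
  rwa [← subgroupOf_normalizer_eq hJ] at hx

theorem HW2 {C : Subgroup G} (hJ : J ≤ C) (hX : RR C ≤ normalizer (J : Set G)) :
    C ≤ normalizer (J : Set G) := by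
  have : Fact (Nat.Prime 3) := ⟨by norm_num⟩
  obtain ⟨T, h1, h2⟩ := H69.exists_isSylowIn_le h.aJ.pg hJ
  exact h1.eq_of_res_le (h.nJ3 h1.isP h2) hX

theorem cop1 {K : Subgroup G} (hK : (Nat.card K).Coprime 3) (hn : J ≤ normalizer (K : Set G))
    {k : G} (hk : k ∈ K) (h1 : k ∈ normalizer (J : Set G)) : k = 1 := by
  have key : ∀ x ∈ K, x ∈ J → x = 1 := fun x hx hj => by
    rw [← orderOf_eq_one_iff]
    exact Nat.eq_one_of_dvd_coprimes hK (orderOf_dvd_natCard K hx)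
      (orderOf_dvd_of_pow_eq_one (h.eJ x hj))
  refine key k hk (h.CJ fun j hj _ => ?_)
  have := key (k * j * k⁻¹ * j⁻¹) (by
    simpa [mul_assoc] using mul_mem hk ((mem_normalizer_iff.1 (hn hj) _).1 (inv_mem hk)))
    (mul_mem (h.nJ h1 hj) (inv_mem hj))
  rwa [mul_inv_eq_one, mul_inv_eq_iff_eq_mul] at this

end Su1

theorem Su3.Psing {S : Subgroup G} {z : G} {Q J L0 : Subgroup G} {ψ : G → P5} {t : G}
    {M0 : Subgroup G} {π : G → P6} {a b u z' : G} (h : Su3 S z Q J L0 ψ t M0 π a b u z') [Finite G]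
    {g w c : G} (hv : g * z * g⁻¹ ∈ J) (hw : w ∈ J) (hn : w ∉ zpowers (g * z * g⁻¹))
    (c1 : Commute c (g * z * g⁻¹)) (c2 : Commute c w) : c ∈ normalizer (J : Set G) := by
  obtain ⟨m, hm, e⟩ := h.fuseJ h.zJ hv
  rw [← e] at hn c1
  have hw' := h.nJ (inv_mem hm) hw
  have d1 : Commute (m⁻¹ * c * m⁻¹⁻¹) z := by
    simpa [mul_assoc] using (show Commute _ _ from SE.conj_comm (g := m⁻¹) c1)
  have d2 : Commute (m⁻¹ * c * m⁻¹⁻¹) (m⁻¹ * w * m⁻¹⁻¹) := SE.conj_comm c2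
  have hL := h.memL.2 (Or.inl (mul_inv_eq_iff_eq_mul.2 d1))
  have hZ : m⁻¹ * w * m⁻¹⁻¹ ∉ zpowers z := fun ⟨k, e1⟩ => hn ⟨k, by
    simp only [conj_zpow] at e1 ⊢; rw [e1]; group⟩
  suffices m⁻¹ * c * m⁻¹⁻¹ ∈ normalizer (J : Set G) by
    simpa [mul_assoc] using mul_mem (mul_mem hm this) (inv_mem hm)
  generalize m⁻¹ * c * m⁻¹⁻¹ = c at d1 d2 hL
  generalize m⁻¹ * w * m⁻¹⁻¹ = w at d2 hw' hZ
  have e1 : c * w * c⁻¹ = w := mul_inv_eq_iff_eq_mul.2 d2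
  by_cases hQ : w ∈ Q
  · exact h.NSM (h.nrmS hL hw' hQ hZ (e1.symm ▸ hw'))
  refine h.NSM (mem_normalizer_fintype fun s hs => ?_)
  rw [SetLike.mem_coe]
  rcases h.sdec (h.JS hw') hQ (h.eJ w hw' ▸ one_mem _) hs with e2 | e2 | e2
  · exact h.QS (h.nQ c hL _ e2)
  · convert mul_mem (h.QS (h.nQ c hL _ e2)) (inv_mem (e1.symm ▸ h.JS hw')) using 1; group
  · convert mul_mem (h.QS (h.nQ c hL _ e2)) (e1.symm ▸ h.JS hw') using 1; group

/-- the centraliser of `y` and `f x` normalises `J` -/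
def Pw (J : Subgroup G) (y : G) (f : V27 → G) (x : V27) : Prop :=
  ∀ c, Commute c y → Commute c (f x) → c ∈ normalizer (J : Set G)

theorem Pw.act {J : Subgroup G} {y : G} {f : V27 → G} {x : V27} (hx : Pw J y f x) {g : G} {w : W}
    (h : Ac J y f g w) : Pw J y f (act w x) := fun c c1 c2 => by
  have := hx (g⁻¹ * c * g) ((h.c.inv_left.mul_left c1).mul_left h.c) (by
    rw [← h.a] at c2
    simpa [mul_assoc] using (show Commute _ _ from SE.conj_comm (g := g⁻¹) c2))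
  simpa [mul_assoc] using mul_mem (mul_mem h.n this) (inv_mem h.n)

namespace Su5

variable {S : Subgroup G} {z : G} {Q J L0 : Subgroup G} {ψ : G → P5} {t : G} {M0 : Subgroup G}
  {π : G → P6} {a b u z' θ : G} (h : Su5 S z Q J L0 ψ t M0 π a b u z' θ) [Finite G]
include h

theorem exAc (w : W) (hw : w.2.2 = 0) : ∃ g, Ac J (z * z') (ff z z' θ) g w := by
  have := ((h.acT.pow w.1.1.val).mul (h.acU.pow w.1.2.val)).mul (h.acθ.pow w.2.1.val)
  rw [(by decide +kernel : ∀ w : W, w.2.2 = 0 → mw (mw (wp ((1, 0), 0, 0) w.1.1.val)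
    (wp ((0, 1), 0, 0) w.1.2.val)) (wp (0, 1, 0) w.2.1.val) = w) w hw] at this
  exact ⟨_, this⟩

theorem Pneg {x : V27} (hx : Pw J (z * z') (ff z z' θ) x) : Pw J (z * z') (ff z z' θ) (-x) :=
  fun c c1 c2 => hx c c1 (by rw [h.fA.neg] at c2; simpa using c2)

theorem ynz {g : G} : z * z' ∉ zpowers (g * z * g⁻¹) := fun e => by
  rcases (mem_z3 (conj3 h.z3 g)).1 e with e1 | e1 | e1
  · exact h.y1 e1
  · exact h.nsy g (e1 ▸ mem_zpowers _)
  · exact h.nsy g (by rw [← inv_mem_iff, ← e1]; exact mem_zpowers _)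

theorem P1 : Pw J (z * z') (ff z z' θ) (0, 0, 1) := fun c c1 c2 => by
  refine h.Psing (g := 1) (by simpa using h.zJ) h.yJ h.ynz ?_ c1
  have := c1.mul_right c2
  rw [f3, mul_assoc, ← mul_assoc z', ← h.zz'.eq, mul_assoc, mul_inv_cancel, mul_one, sq3 h.z3] at this
  simpa using this

theorem P3 : Pw J (z * z') (ff z z' θ) (1, 1, 1) := fun c c1 c2 => by
  have : Fact (Nat.Prime 3) := ⟨by norm_num⟩
  obtain ⟨m, hm, e⟩ := H4.exists_conj_le_sylow_of_le h.syl h.SM (pgz (x := θ) (k := 2) (by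
    rw [pow_two, pow_mul, h.eJ _ h.θ3])) (zpowers_le.2 h.θN)
  have e1 := h.LC _ (h.SL (e θ (mem_zpowers θ)))
  have hv := h.nJ (inv_mem hm) h.zJ
  have e2 : θ * (m⁻¹ * z * m⁻¹⁻¹) * θ⁻¹ = m⁻¹ * z * m⁻¹⁻¹ := by nth_rewrite 2 [← e1]; group
  refine h.Psing hv h.yJ h.ynz ?_ c1
  obtain ⟨v, hy, x, e3⟩ := h.decJ hv
  obtain ⟨k, rfl⟩ := id hy
  rw [e3, ← mul_assoc, (h.θy.zpow_right k).eq, mul_assoc, mul_assoc, mul_right_inj, ← mul_assoc,
    h.acθ.a] at e2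
  rw [e3]
  refine (c1.zpow_right k).mul_right ?_
  rw [rot_fix x (h.finj e2),
    h.fA.nsmul]
  exact c2.pow_right _

theorem P13 {x : V27} (hx : kap x = 1 ∨ kap x = 3) : Pw J (z * z') (ff z z' θ) x := by
  obtain ⟨w, hw, e | e | e⟩ := (by decide +kernel : ∀ x : V27, kap x = 1 ∨ kap x = 3 →
    ∃ w : W, w.2.2 = 0 ∧ (act w (0, 0, 1) = x ∨ act w (1, 1, 1) = x ∨ act w (-(1, 1, 1)) = x)) x hx
    <;> obtain ⟨g, hg⟩ := h.exAc w hw <;> rw [← e]
  exacts [h.P1.act hg, h.P3.act hg, (h.Pneg h.P3).act hg]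

theorem Pij {c : G} (c1 : Commute c (z * z')) (c2 : Commute c (ff z z' θ (1, 2, 0))) {i j : ZMod 3}
    (hij : (i, j) ≠ 0) (c3 : Commute c (ff z z' θ (i, i, j))) : c ∈ normalizer (J : Set G) := by
  obtain ⟨n, hn⟩ := (by decide +kernel : ∀ i j : ZMod 3, (i, j) ≠ 0 → ∃ n : Fin 3,
    kap ((i, i, j) + n.val • (1, 2, 0)) = 1 ∨ kap ((i, i, j) + n.val • (1, 2, 0)) = 3) i j hij
  exact h.P13 hn c c1 (by rw [h.fA, h.fA.nsmul]; exact c3.mul_right (c2.pow_right _))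

theorem nc2 {A : Subgroup G} (hA : A ≤ J) (h1 : ff z z' θ (0, 0, 1) ∈ A)
    (h2 : ff z z' θ (1, 1, 0) ∈ A) : ¬ IsCyclic A :=
  ncyc (fun x hx => h.eJ x (hA hx)) h1 h2 (f3 (θ := θ) ▸ h.e31) fun e => by
    rcases (mem_z3 (h.eJ _ (h.fJ _))).1 e with e1 | e1 | e1
    · rw [← h.fA.zero] at e1; exact absurd (h.finj e1) (by decide)
    · exact absurd (h.finj e1) (by decide)
    · rw [← h.fA.neg] at e1; exact absurd (h.finj e1) (by decide)

theorem noinv {K : Subgroup G} (hK : (Nat.card K).Coprime 3) (hn : J ≤ normalizer (K : Set G))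
    (hc : K ≤ centralizer {z * z', ff z z' θ (1, 2, 0)}) : K = ⊥ := by
  have hA : AH fun p : ZMod 3 × ZMod 3 => ff z z' θ (p.1, p.1, p.2) := fun p q =>
    h.fA (p.1, p.1, p.2) (q.1, q.1, q.2)
  have hJ : hA.hom.range ≤ J := by rintro _ ⟨p, rfl⟩; exact h.fJ _
  refine le_bot_iff.1 (H2.le_of_forall_centralizer_le (A := hA.hom.range)
    ⟨⟨fun x y => Subtype.ext (h.comJ (hJ x.2) (hJ y.2))⟩⟩
    (h.nc2 hJ ⟨Multiplicative.ofAdd (0, 1), rfl⟩ ⟨Multiplicative.ofAdd (1, 0), rfl⟩) (hJ.trans hn)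
    (Nat.Coprime.coprime_dvd_left (card_dvd_of_le hJ) (by
      rw [h.aJ.1]; exact Nat.Coprime.pow_left 4 hK.symm)) ?_)
  rintro _ ⟨p, rfl⟩ p1 k ⟨hk, c3⟩
  exact h.cop1 hK hn hk (h.Pij (hc hk _ (by simp)).symm (hc hk _ (by simp)).symm
    (i := p.toAdd.1) (j := p.toAdd.2) (fun e => p1 (by
      rw [show p = 1 from e, map_one])) (mem_centralizer_singleton_iff.1 c3))

theorem JC {x : V27} : J ≤ centralizer {z * z', ff z z' θ x} := fun j hj g hg => by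
  rcases hg with rfl | rfl
  exacts [h.comJ h.yJ hj, h.comJ (h.fJ _) hj]

omit h [Finite G] in
theorem mC {y v c : G} : c ∈ centralizer {y, v} ↔ Commute c y ∧ Commute c v := by
  simp only [mem_centralizer_iff, Set.mem_insert_iff, Set.mem_singleton_iff, forall_eq_or_imp,
    forall_eq]
  exact ⟨fun e => ⟨e.1.symm, e.2.symm⟩, fun e => ⟨e.1.symm, e.2.symm⟩⟩

theorem P2A (hA : ∀ c ∈ NL z, ψ c = 1 → c * z * c⁻¹ = z) :
    Pw J (z * z') (ff z z' θ) (1, 2, 0) := fun c c1 c2 => by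
  have : Fact (Nat.Prime 3) := ⟨by norm_num⟩
  have hJ := h.JC (x := (1, 2, 0))
  have h1 := h.HW (H0 := ⊥) hJ fun g hg hn => ⟨1, by
    obtain ⟨w, hw, ac⟩ := h.acΓ (h.genA hA hn (mC.1 hg).1)
    have := ac.a (1, 2, 0)
    rw [(mC.1 hg).2.eq, mul_inv_cancel_right] at this
    rw [stab_A w hw
      (h.finj this)] at ac
    exact h.eJ g (h.ker0 ac)⟩
  obtain ⟨T, t1, t2⟩ := H69.exists_isSylowIn_le h.aJ.pg hJ
  have t3 := t1.inf_normal (H69.res_le (p := 3) _) (H69.le_normalizer_res _)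
  have t4 := t3.dvd_card_iff.not.2 (not_not.2 (le_bot_iff.1 fun x hx =>
    h1 ⟨hx.2, h.nJ3 t1.isP t2 hx.1⟩))
  have := h.noinv ((Nat.Prime.coprime_iff_not_dvd (by norm_num)).2 t4).symm
    (hJ.trans (H69.le_normalizer_res _)) (H69.res_le _)
  exact h.HW2 hJ (by rw [RR, this]; exact bot_le) (mC.2 ⟨c1, c2⟩)

theorem P2B {θ' σ : G} (k : Sg J (z * z') (ff z z' θ) t u θ' σ) :
    Pw J (z * z') (ff z z' θ) (1, 2, 0) := fun c c1 c2 => by
  have : Fact (Nat.Prime 3) := ⟨by norm_num⟩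
  have hJ := h.JC (x := (1, 2, 0))
  have σi : σ⁻¹ = σ := inv_eq_of_mul_eq_one_right k.σ2
  have hσ : σ ∈ centralizer {z * z', ff z z' θ (1, 2, 0)} := mC.2 ⟨k.aσ.c,
    mul_inv_eq_iff_eq_mul.1 (by rw [k.aσ.a, act_σ.1])⟩
  refine h.HW2 hJ ?_ (mC.2 ⟨c1, c2⟩)
  have hle : RR (centralizer {z * z', ff z z' θ (1, 2, 0)}) ≤ _ := H69.res_le _
  have hnr : _ ≤ normalizer (RR (centralizer {z * z', ff z z' θ (1, 2, 0)}) : Set G) :=
    H69.le_normalizer_res _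
  have hrr : pResidual 3 (RR (centralizer {z * z', ff z z' θ (1, 2, 0)})) = ⊤ :=
    H69.res_eq_self_iff.1 (H69.res_res _)
  have σX := inv_RR hσ k.σ2
  have i1 : σ * ff z z' θ (0, 0, 1) * σ⁻¹ = (ff z z' θ (0, 0, 1))⁻¹ := by
    rw [k.aσ.a, ← h.fA.neg, act_σ.2.1]
  have m1 := com_RR hσ (hJ (h.fJ _)) k.σ2 (h.eJ _ (h.fJ _)) i1
  have m2 := com_RR hσ (hJ (h.fJ (1, 1, 0))) k.σ2 (h.eJ _ (h.fJ _)) (by
    rw [k.aσ.a, ← h.fA.neg, act_σ.2.2])
  have key : ∀ g ∈ centralizer {z * z', ff z z' θ (1, 2, 0)}, g ∈ normalizer (J : Set G) →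
      g * σ ∈ J ∨ g ∈ J := fun g hg hn => by
    obtain ⟨w, ac⟩ := k.gen g hn (mC.1 hg).1
    have := ac.a (1, 2, 0)
    rw [(mC.1 hg).2.eq, mul_inv_cancel_right] at this
    rcases stab_B w
      (h.finj this) with rfl | rfl
    · exact Or.inl (h.ker0 (ac.mul k.aσ))
    · exact Or.inr (h.ker0 ac)
  obtain ⟨T, t1, t2⟩ := H69.exists_isSylowIn_le h.aJ.pg hJ
  obtain rfl : T = J := le_antisymm (fun x hx => by
    refine (key x (t1.le hx) (h.nJ3 t1.isP t2 hx)).elim (fun e => ?_) id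
    obtain ⟨n, e1⟩ := t1.isP ⟨x, hx⟩
    refine mem_of_sq (congrArg Subtype.val e1) ?_
    convert mul_mem e (h.nJ k.aσ.n e) using 1
    calc _ = x * (σ * σ) * x * (σ * σ⁻¹) := by rw [k.σ2]; simp
      _ = _ := by group) t2
  have t3 := t1.inf_normal hle hnr
  generalize RR (centralizer {z * z', ff z z' θ (1, 2, 0)}) = X at *
  obtain ⟨P, hP⟩ := t3.exists_sylow_subgroupOf
  have mP : ∀ x : X, x ∈ (P : Subgroup X) ↔ (x : G) ∈ T := fun x => by
    rw [hP, mem_subgroupOf]; exact and_iff_left x.2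
  have nP : ∀ g : X, g ∈ normalizer ((P : Subgroup X) : Set X) → (g : G) ∈ normalizer (T : Set G) :=
    fun g hg => mem_normalizer_fintype fun j hj => by
      obtain ⟨_, ⟨n, rfl⟩, x, rfl⟩ := h.decJ hj
      have a1 : ∀ v (hv : v ∈ X), v ∈ T → g * v * (g : G)⁻¹ ∈ T := fun v hv hT =>
        (mP _).1 ((mem_normalizer_iff.1 hg ⟨v, hv⟩).1 ((mP _).2 hT))
      obtain ⟨b1, b2⟩ := mC.1 (hle g.2)
      obtain ⟨i, j, l, e⟩ := dec_B x
      rw [e, h.fA, h.fA, h.fA.nsmul, h.fA.nsmul, h.fA.nsmul, SetLike.mem_coe]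
      have a2 := mul_mem (mul_mem (zpow_mem h.yJ n) (pow_mem (h.fJ (1, 2, 0)) i.val))
        (a1 _ (mul_mem (pow_mem m2 j.val) (pow_mem m1 l.val))
          (mul_mem (pow_mem (h.fJ _) _) (pow_mem (h.fJ _) _)))
      convert a2 using 1
      simp only [← mul_assoc]
      rw [← ((b1.zpow_right n).mul_right (b2.pow_right i.val)).eq, mul_assoc (g : G)]
  have hO : pPrimeCore 3 X = ⊥ := by
    rw [← map_eq_bot_iff_of_injective _ X.subtype_injective]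
    exact h.noinv (by rw [card_map_of_injective X.subtype_injective]; exact H1.coprime_card_pPrimeCore)
      ((hJ.trans hnr).trans (H1.normalizer_le_normalizer_map_subtype_of_characteristic X _))
      ((map_subtype_le _).trans hle)
  have hl := (Agent.S3347.result 3 (by norm_num) P
    ⟨⟨fun x y => Subtype.ext (Subtype.ext (h.comJ ((mP _).1 x.2) ((mP _).1 y.2)))⟩⟩
    (fun e => h.nc2 (inf_le_left : T ⊓ X ≤ T) ⟨h.fJ _, m1⟩ ⟨h.fJ _, m2⟩ (by
      rw [hP] at e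
      exact (subgroupOfEquivOfLe inf_le_right).isCyclic.1 e))
    (relIndex_eq_two_iff_exists_notMem_and.2 ⟨⟨σ, σX⟩, mem_normalizer_fintype fun x hx =>
      (mP _).2 (h.nJ k.aσ.n ((mP _).1 hx)), fun e => by
        have := congrArg Subtype.val (e ⟨_, m1⟩ ((mP _).2 (h.fJ _)))
        refine ne_inv3 (h.eJ _ (h.fJ (0, 0, 1))) (f3 (θ := θ) ▸ h.e31) ?_
        rw [← i1, eq_mul_inv_iff_mul_eq]; exact this, fun g hg =>
      (key g (hle g.2) (nP g hg)).imp (fun e x hx => Subtype.ext (h.comJ ((mP _).1 hx) e))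
        fun e x hx => Subtype.ext (h.comJ ((mP _).1 hx) e)⟩)).resolve_left (not_not.2 hrr)
  have hN : (P : Subgroup X).Normal := by
    rw [H49.sylow_eq_pCore_of_pLengthLE_one hl hO P]; infer_instance
  exact fun g hg => nP ⟨g, hg⟩ (by rw [normalizer_eq_top]; trivial)

theorem Pall (h2 : Pw J (z * z') (ff z z' θ) (1, 2, 0)) {x : V27} (hx : x ≠ 0) :
    Pw J (z * z') (ff z z' θ) x := by
  rcases (by decide +kernel : ∀ x : V27, x ≠ 0 → (kap x = 1 ∨ kap x = 3) ∨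
    ∃ w : W, w.2.2 = 0 ∧ act w (1, 2, 0) = x) x hx with e | ⟨w, hw, rfl⟩
  · exact h.P13 e
  · obtain ⟨g, hg⟩ := h.exAc w hw
    exact h2.act hg

end Su5

end H87.Mc
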